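import Groth.Agent.FlatIdealLib.Main
import Groth.Agent.DevissLib.Transfer

/-!
# The ideal of the flat locus above a point, for finite type algebras over a henselian local ring
-/

set_option autoImplicit false
set_option linter.style.haveILetI false
set_option backward.isDefEq.respectTransparency false
set_option backward.isDefEq.respectTransparency.types false
set_option maxHeartbeats 2000000
set_option synthInstance.maxHeartbeats 100000

universe u

open TensorProduct IsLocalRing

noncomputable section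

namespace Groth.Agent.FlatIdealLib

attribute [local instance] Algebra.TensorProduct.rightAlgebra

/-- Over a henselian local ring the ideal exists at every point of the closed fibre. -/
theorem exists_parts {A S : Type u} [CommRing A] [HenselianLocalRing A] [CommRing S] [Algebra A S] [Algebra.FiniteType A S]
    (N : Type u) [AddCommGroup N] [Module S N] [Module A N] [IsScalarTower A S N] [Module.Finite S N]
    (q : Ideal S) [q.IsPrime] [q.LiesOver (maximalIdeal A)] : ∃ I : Ideal A, Parts A S N q I := by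
  by_cases hsupp : (⟨q, inferInstance⟩ : PrimeSpectrum S) ∈ Module.support S N
  swap
  · exact ⟨⊥, parts_of_subsingleton N q hsupp⟩
  obtain ⟨R₁, S₁, _, _, _, _, _, _, _, _, p₁, w, hp₁, hw, hR₁, hS₁, hwp, hDev⟩ :=
    DevLib.existsDev_of_mem_support N (maximalIdeal A) q hsupp
  haveI := hp₁
  haveI := hw
  haveI := hwp
  obtain ⟨hR₁e, hp₁p, hres⟩ := id hR₁
  obtain ⟨hS₁e, hwq, -⟩ := id hS₁
  haveI := hR₁e
  haveI := hp₁p
  haveI := hS₁e
  haveI := hwq
  -- the section
  let m := maximalIdeal A
  let e₀ : (A ⧸ m) ≃ₐ[A] m.ResidueField :=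
    AlgEquiv.ofBijective (IsScalarTower.toAlgHom A (A ⧸ m) m.ResidueField) (Ideal.bijective_algebraMap_quotient_residueField m)
  let e₁ : m.ResidueField ≃ₐ[A] p₁.ResidueField :=
    AlgEquiv.ofBijective (Ideal.ResidueField.mapₐ m p₁ (Algebra.ofId A R₁) (p₁.over_def m)) hres
  let σ : R₁ →ₐ[A] A ⧸ m :=
    (e₁.symm.trans e₀.symm).toAlgHom.comp (IsScalarTower.toAlgHom A R₁ p₁.ResidueField)
  haveI : HenselianRing A m := inferInstance
  obtain ⟨τ, hτ⟩ := Hensel.exists_lift_of_etale (I := m) σ
  letI : Algebra R₁ A := τ.toRingHom.toAlgebra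
  haveI : IsScalarTower A R₁ A := .of_algebraMap_eq fun a => (τ.commutes a).symm
  have hker : ∀ r : R₁, τ r ∈ m ↔ r ∈ p₁ := fun r => by
    rw [← Ideal.Quotient.eq_zero_iff_mem, ← Ideal.algebraMap_residueField_eq_zero (I := p₁)]
    have h1 : Ideal.Quotient.mk m (τ r) = (e₁.symm.trans e₀.symm) (algebraMap R₁ p₁.ResidueField r) := AlgHom.congr_fun hτ r
    rw [h1, map_eq_zero_iff _ (AlgEquiv.injective _)]
  haveI : m.LiesOver p₁ := ⟨Ideal.ext fun r => (hker r).symm⟩
  haveI : Algebra.Etale A A := inferInstance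
  haveI : Algebra.Etale R₁ A := Algebra.Etale.of_restrictScalars A R₁ A
  have hb := DevissLib.residue_bijective_of_frac p₁ m fun a => ⟨1, algebraMap A R₁ a, p₁.one_notMem, by
    rw [map_one, one_mul, show algebraMap R₁ A (algebraMap A R₁ a) = a from τ.commutes a, sub_self]
    exact m.zero_mem⟩
  -- the chart
  let C := A ⊗[R₁] S₁
  let Yf := (Ideal.fiberIsoOfBijectiveResidueField (S := S₁) hb).symm ⟨w, inferInstance, inferInstance⟩
  let w' : Ideal C := Yf.1
  haveI : w'.IsPrime := Yf.2.1
  haveI : w'.LiesOver m := Yf.2.2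
  haveI : w'.LiesOver w :=
    ⟨(Ideal.comap_fiberIsoOfBijectiveResidueField_symm hb (⟨w, inferInstance, inferInstance⟩ : p₁.primesOver S₁)).symm⟩
  letI : Algebra S C := ((algebraMap S₁ C).comp (algebraMap S S₁)).toAlgebra
  haveI : IsScalarTower S S₁ C := .of_algebraMap_eq' rfl
  haveI : w'.LiesOver q := Ideal.LiesOver.trans w' w q
  haveI : IsScalarTower A S₁ C := IsScalarTower.of_algebraMap_eq (R := A) (S := S₁) (A := C) fun a => by
    rw [IsScalarTower.algebraMap_apply A R₁ S₁, ← IsScalarTower.algebraMap_apply R₁ S₁ C,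
      IsScalarTower.algebraMap_apply R₁ A C, show algebraMap R₁ A (algebraMap A R₁ a) = a from τ.commutes a]
  haveI : IsScalarTower A S C := IsScalarTower.of_algebraMap_eq (R := A) (S := S) (A := C) fun a => by
    rw [IsScalarTower.algebraMap_apply A S₁ C, IsScalarTower.algebraMap_apply A S S₁, ← IsScalarTower.algebraMap_apply S S₁ C]
  haveI : Module.Flat S₁ C := Module.Flat.of_linearEquiv (Algebra.TensorProduct.commRight R₁ S₁ A).toLinearEquiv.symm
  haveI : Module.Flat S C := Module.Flat.trans S S₁ C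
  haveI : Algebra.FiniteType S₁ C := Algebra.FiniteType.equiv inferInstance (Algebra.TensorProduct.commRight R₁ S₁ A)
  haveI : IsScalarTower S C (C ⊗[S] N) := inferInstance
  letI : Module S₁ (C ⊗[S] N) := Module.compHom _ (algebraMap S₁ C)
  haveI : IsScalarTower S₁ C (C ⊗[S] N) := .of_algebraMap_smul fun _ _ => rfl
  haveI : IsScalarTower S S₁ (C ⊗[S] N) := .of_algebraMap_smul fun b (x : C ⊗[S] N) => by
    show algebraMap S₁ C (algebraMap S S₁ b) • x = b • x
    rw [← IsScalarTower.algebraMap_apply S S₁ C, algebraMap_smul]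
  have hf := TensorProduct.isBaseChange S N C
  let g := (TensorProduct.isBaseChange S N S₁).lift (TensorProduct.mk S C N 1)
  have hg : IsBaseChange C g := IsBaseChange.of_comp (TensorProduct.isBaseChange S N S₁) (by
    rwa [show (g.restrictScalars S) ∘ₗ TensorProduct.mk S S₁ N 1 = TensorProduct.mk S C N 1 from
      LinearMap.ext fun x => (TensorProduct.isBaseChange S N S₁).lift_eq _ x])
  haveI : w.LiesOver p₁ := hwp
  haveI : Algebra.QuasiFiniteAt R₁ m := inferInstance
  have hD : DevLib.Dev A m C (C ⊗[S] N) w' :=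
    DevLib.Dev.baseChange hb (hDev (S₁ ⊗[S] N) _ (TensorProduct.isBaseChange S N S₁)) C (C ⊗[S] N) g hg w'
  obtain ⟨I, hI⟩ := exists_parts_of_dev hD
  exact ⟨I, ((rep_iff_of_flat N (C ⊗[S] N) (TensorProduct.mk S C N 1) hf q w' (w'.over_def q).symm I).1 hI.rep).parts⟩

end Groth.Agent.FlatIdealLib
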