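import Groth.Agent.S6918
import Groth.Agent.PureColimLib.Flat
import Groth.Agent.FlatAboveLib.Finite
import Groth.Agent.FlatAboveLib.Basic

/-!
# Ideals representing flatness above a point of the closed fibre
-/

set_option autoImplicit false
set_option linter.style.haveILetI false
set_option backward.isDefEq.respectTransparency false
set_option backward.isDefEq.respectTransparency.types false
set_option maxHeartbeats 1000000
set_option synthInstance.maxHeartbeats 100000

universe u

open TensorProduct IsLocalRing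

noncomputable section

namespace Groth.Agent.FlatIdealLib

/-- `I` cuts out the local test rings over which the base change of `N` is flat at all primes above `q`
and the closed point. -/
def Rep (A S : Type u) [CommRing A] [IsLocalRing A] [CommRing S] [Algebra A S] (N : Type u) [AddCommGroup N] [Module S N]
    (q : Ideal S) (I : Ideal A) : Prop :=
  ∀ (A' S' N' : Type u) [CommRing A'] [IsLocalRing A'] [Algebra A A'] [IsLocalHom (algebraMap A A')]
    [CommRing S'] [Algebra S S'] [Algebra A' S'] [Algebra A S'] [IsScalarTower A S S'] [IsScalarTower A A' S']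
    [Algebra.IsPushout A S A' S'] [AddCommGroup N'] [Module S' N'] [Module S N'] [IsScalarTower S S' N']
    [Module A' N'] [IsScalarTower A' S' N'] (f : N →ₗ[S] N'), IsBaseChange S' f →
    ((∀ (Q : Ideal S') [Q.IsPrime], Q.comap (algebraMap S S') = q → Q.comap (algebraMap A' S') = maximalIdeal A' →
      FlatCA.FlatAt A' Q N') ↔ I.map (algebraMap A A') = ⊥)

/-- Flatness over the quotient by `I`, and vanishing of `I` over test rings with flat base change. -/
structure Parts (A S : Type u) [CommRing A] [IsLocalRing A] [CommRing S] [Algebra A S] (N : Type u) [AddCommGroup N]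
    [Module S N] (q : Ideal S) (I : Ideal A) : Prop where
  vanish : ∀ (A' S' N' : Type u) [CommRing A'] [IsLocalRing A'] [Algebra A A'] [IsLocalHom (algebraMap A A')]
    [CommRing S'] [Algebra S S'] [Algebra A' S'] [Algebra A S'] [IsScalarTower A S S'] [IsScalarTower A A' S']
    [Algebra.IsPushout A S A' S'] [AddCommGroup N'] [Module S' N'] [Module S N'] [IsScalarTower S S' N']
    [Module A' N'] [IsScalarTower A' S' N'] (f : N →ₗ[S] N'), IsBaseChange S' f →
    (∀ (Q : Ideal S') [Q.IsPrime], Q.comap (algebraMap S S') = q → Q.comap (algebraMap A' S') = maximalIdeal A' →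
      FlatCA.FlatAt A' Q N') → I.map (algebraMap A A') = ⊥
  flat : ∀ [IsLocalRing (A ⧸ I)] (S₀ N₀ : Type u) [CommRing S₀] [Algebra S S₀] [Algebra (A ⧸ I) S₀] [Algebra A S₀]
    [IsScalarTower A S S₀] [IsScalarTower A (A ⧸ I) S₀] [Algebra.IsPushout A S (A ⧸ I) S₀]
    [AddCommGroup N₀] [Module S₀ N₀] [Module S N₀] [IsScalarTower S S₀ N₀]
    [Module (A ⧸ I) N₀] [IsScalarTower (A ⧸ I) S₀ N₀] (f : N →ₗ[S] N₀), IsBaseChange S₀ f →
    ∀ (Q : Ideal S₀) [Q.IsPrime], Q.comap (algebraMap S S₀) = q →
      Q.comap (algebraMap (A ⧸ I) S₀) = maximalIdeal (A ⧸ I) → FlatCA.FlatAt (A ⧸ I) Q N₀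

/-- Models of base changes. -/
theorem exists_models {A S : Type u} [CommRing A] [CommRing S] [Algebra A S] (N : Type u) [AddCommGroup N] [Module S N]
    (A' : Type u) [CommRing A'] [Algebra A A'] :
    ∃ (S' N' : Type u) (_ : CommRing S') (_ : Algebra S S') (_ : Algebra A' S') (_ : Algebra A S') (_ : IsScalarTower A S S')
      (_ : IsScalarTower A A' S') (_ : Algebra.IsPushout A S A' S') (_ : AddCommGroup N') (_ : Module S' N') (_ : Module S N')
      (_ : IsScalarTower S S' N') (_ : Module A' N') (_ : IsScalarTower A' S' N') (f : N →ₗ[S] N'), IsBaseChange S' f := by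
  letI : Algebra A' (S ⊗[A] A') := Algebra.TensorProduct.rightAlgebra
  letI : Module A' ((S ⊗[A] A') ⊗[S] N) := Module.compHom _ (algebraMap A' (S ⊗[A] A'))
  haveI : IsScalarTower A' (S ⊗[A] A') ((S ⊗[A] A') ⊗[S] N) := .of_algebraMap_smul fun _ _ => rfl
  exact ⟨S ⊗[A] A', (S ⊗[A] A') ⊗[S] N, inferInstance, inferInstance, inferInstance, inferInstance, inferInstance,
    inferInstance, inferInstance, inferInstance, inferInstance, inferInstance, inferInstance, inferInstance, inferInstance,
    TensorProduct.mk S _ N 1, TensorProduct.isBaseChange _ _ _⟩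

/-- The ideal lies in the maximal ideal. -/
theorem Parts.le_max {A S : Type u} [CommRing A] [IsLocalRing A] [CommRing S] [Algebra A S] {N : Type u} [AddCommGroup N]
    [Module S N] {q : Ideal S} {I : Ideal A} (h : Parts A S N q I) : I ≤ maximalIdeal A := by
  let k := ResidueField A
  obtain ⟨S', N', _, _, _, _, _, _, _, _, _, _, _, _, _, f, hf⟩ := exists_models (A := A) (S := S) N k
  intro a ha
  haveI : IsLocalHom (algebraMap A k) := IsLocalHom.of_surjective _ IsLocalRing.residue_surjective
  have h0 := h.vanish k S' N' f hf (fun Q _ _ _ => by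
    unfold FlatCA.FlatAt
    infer_instance)
  have h1 : algebraMap A k a ∈ I.map (algebraMap A k) := Ideal.mem_map_of_mem _ ha
  rw [h0, Ideal.mem_bot] at h1
  exact (residue_eq_zero_iff a).1 h1

/-- The two parts give the representing property. -/
theorem Parts.rep {A S : Type u} [CommRing A] [IsLocalRing A] [CommRing S] [Algebra A S] {N : Type u} [AddCommGroup N]
    [Module S N] {q : Ideal S} [q.IsPrime] {I : Ideal A} (h : Parts A S N q I) : Rep A S N q I := by
  intro A' S' N' _ _ _ _ _ _ _ _ _ _ hpo _ _ _ _ _ _ f hf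
  refine ⟨h.vanish A' S' N' f hf, fun hI Q _ hQq hQm => ?_⟩
  haveI := hpo
  let A₀ := A ⧸ I
  haveI : Nontrivial A₀ := Ideal.Quotient.nontrivial_iff.2 fun h0 =>
    (maximalIdeal.isMaximal A).ne_top (top_le_iff.1 (h0 ▸ h.le_max))
  haveI : IsLocalRing A₀ := IsLocalRing.of_surjective' (Ideal.Quotient.mk I) Ideal.Quotient.mk_surjective
  letI : Algebra A₀ A' := (Ideal.Quotient.lift I (algebraMap A A') fun x hx => by
    have h1 := Ideal.mem_map_of_mem (algebraMap A A') hx
    rwa [hI, Ideal.mem_bot] at h1).toAlgebra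
  haveI : IsScalarTower A A₀ A' := IsScalarTower.of_algebraMap_eq (R := A) (S := A₀) (A := A') fun x => rfl
  obtain ⟨S₀, N₀, _, _, _, _, _, _, hpo₀, _, _, _, _, _, _, f₀, hf₀⟩ := exists_models (A := A) (S := S) N A₀
  haveI := hpo₀
  let τ : S₀ →ₐ[A] S' := Algebra.pushoutDesc S₀ (IsScalarTower.toAlgHom A S S')
    ((IsScalarTower.toAlgHom A A' S').comp (IsScalarTower.toAlgHom A A₀ A')) fun _ _ => Commute.all _ _
  letI : Algebra S₀ S' := τ.toRingHom.toAlgebra
  haveI : IsScalarTower S S₀ S' := IsScalarTower.of_algebraMap_eq (R := S) (S := S₀) (A := S') fun s => by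
    show _ = τ (algebraMap S S₀ s)
    rw [Algebra.pushoutDesc_left]
    rfl
  letI : Algebra A₀ S' := ((algebraMap A' S').comp (algebraMap A₀ A')).toAlgebra
  haveI : IsScalarTower A₀ A' S' := .of_algebraMap_eq' rfl
  haveI : IsScalarTower A₀ S₀ S' := IsScalarTower.of_algebraMap_eq (R := A₀) (S := S₀) (A := S') fun s => by
    show _ = τ (algebraMap A₀ S₀ s)
    rw [Algebra.pushoutDesc_right]
    rfl
  haveI : IsScalarTower A S₀ S' := IsScalarTower.of_algebraMap_eq (R := A) (S := S₀) (A := S') fun s => (τ.commutes s).symm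
  haveI : Algebra.IsPushout A A₀ S S₀ := Algebra.IsPushout.symm inferInstance
  haveI : Algebra.IsPushout A A' S S' := Algebra.IsPushout.symm inferInstance
  haveI : Algebra.IsPushout A₀ A' S₀ S' :=
    (Algebra.IsPushout.comp_iff (R := A) (S := A₀) (R' := S) (S' := S₀) (T := A') (T' := S')).1 inferInstance
  letI : Module S₀ N' := Module.compHom N' (algebraMap S₀ S')
  haveI : IsScalarTower S₀ S' N' := .of_algebraMap_smul fun _ _ => rfl
  haveI : IsScalarTower S S₀ N' := IsScalarTower.of_algebraMap_smul (R := S) (A := S₀) (M := N') fun s x => by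
    show algebraMap S₀ S' (algebraMap S S₀ s) • x = s • x
    rw [← IsScalarTower.algebraMap_apply, algebraMap_smul]
  let θ : N₀ →ₗ[S₀] N' := hf₀.lift f
  have hθ : IsBaseChange S' θ := IsBaseChange.of_comp hf₀ (h := θ) (by
    rw [show (θ.restrictScalars S).comp f₀ = f from hf₀.lift_comp f]
    exact hf)
  let Q₀ : Ideal S₀ := Q.comap (algebraMap S₀ S')
  have hQ₀q : Q₀.comap (algebraMap S S₀) = q := by
    rw [Ideal.comap_comap, ← IsScalarTower.algebraMap_eq, hQq]
  have hQ₀m : Q₀.comap (algebraMap A₀ S₀) = maximalIdeal A₀ := by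
    rw [Ideal.comap_comap, ← IsScalarTower.algebraMap_eq, IsScalarTower.algebraMap_eq A₀ A' S', ← Ideal.comap_comap, hQm]
    haveI : IsLocalHom (algebraMap A₀ A') := ⟨fun x hx => by
      obtain ⟨x, rfl⟩ := Ideal.Quotient.mk_surjective x
      exact (isUnit_of_map_unit (algebraMap A A') x hx).map _⟩
    ext x
    simp only [Ideal.mem_comap, mem_maximalIdeal, mem_nonunits_iff]
    exact ⟨fun hx hu => hx (hu.map _), fun hx hu => hx (isUnit_of_map_unit _ _ hu)⟩
  haveI : Module.Flat A₀ (LocalizedModule Q₀.primeCompl N₀) := h.flat S₀ N₀ f₀ hf₀ Q₀ hQ₀q hQ₀m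
  exact PullbackMod.flat_localized_pushout (A := A₀) (A' := A') θ hθ Q₀.primeCompl Q.primeCompl
    (by rintro _ ⟨x, hx, rfl⟩; exact hx) (LocalizedModule.mkLinearMap Q.primeCompl N')

/-- Conversely the representing property gives both parts. -/
theorem Rep.parts {A S : Type u} [CommRing A] [IsLocalRing A] [CommRing S] [Algebra A S] {N : Type u} [AddCommGroup N]
    [Module S N] {q : Ideal S} {I : Ideal A} (h : Rep A S N q I) : Parts A S N q I where
  vanish A' S' N' := fun f hf => (h A' S' N' f hf).1
  flat S₀ N₀ := fun f hf Q _ hq hm => by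
    haveI : IsLocalHom (algebraMap A (A ⧸ I)) := IsLocalHom.of_surjective _ Ideal.Quotient.mk_surjective
    exact (h (A ⧸ I) S₀ N₀ f hf).2 (by rw [Ideal.Quotient.algebraMap_eq, Ideal.map_quotient_self]) Q hq hm

end Groth.Agent.FlatIdealLib
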