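import Groth.Agent.FlatIdealLib.Basic

/-!
# The ideal of the flat locus is finitely generated in the finitely presented case
-/

set_option autoImplicit false
set_option linter.style.haveILetI false
set_option backward.isDefEq.respectTransparency false
set_option backward.isDefEq.respectTransparency.types false
set_option maxHeartbeats 2000000
set_option synthInstance.maxHeartbeats 100000

universe u

open TensorProduct IsLocalRing

noncomputable section

namespace Groth.Agent.FlatIdealLib

/-- Finite generation by passing to the colimit over finitely generated subideals. -/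
theorem Parts.fg {A S : Type u} [CommRing A] [IsLocalRing A] [CommRing S] [Algebra A S] [Algebra.FinitePresentation A S]
    {N : Type u} [AddCommGroup N] [Module S N] [Module A N] [IsScalarTower A S N] [Module.FinitePresentation S N]
    {q : Ideal S} [q.IsPrime] [q.LiesOver (maximalIdeal A)] {I : Ideal A} (h : Parts A S N q I) : I.FG := by
  classical
  let ι := {J : Ideal A // J.FG ∧ J ≤ I}
  let G : ι → Type u := fun J => A ⧸ J.1
  let R := A ⧸ I
  letI : ∀ J : ι, Algebra (G J) R := fun J => (Ideal.Quotient.factor J.2.2).toAlgebra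
  haveI : ∀ J : ι, IsScalarTower A (G J) R := fun J => IsScalarTower.of_algebraMap_eq (R := A) (S := G J) (A := R) fun _ => rfl
  let g : ∀ J J' : ι, J ≤ J' → G J →ₐ[A] G J' := fun J J' hJ => Ideal.Quotient.factorₐ A hJ
  haveI : IsDirected ι (· ≤ ·) := ⟨fun J J' => ⟨⟨J.1 ⊔ J'.1, Submodule.FG.sup J.2.1 J'.2.1, sup_le J.2.2 J'.2.2⟩,
    (le_sup_left : J.1 ≤ _), (le_sup_right : J'.1 ≤ _)⟩⟩
  let j₀ : ι := ⟨⊥, Submodule.fg_bot, bot_le⟩
  have hcolim : FlatCA.IsDirectedColimitRing G (fun i j h => (g i j h).toRingHom) R := by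
    refine ⟨inferInstance, ⟨j₀⟩, fun J => ?_, fun J J' J'' h1 h2 => ?_, fun J J' h1 => ?_, fun a => ?_, fun J x hx => ?_⟩
    · exact Ideal.Quotient.ringHom_ext rfl
    · exact Ideal.Quotient.ringHom_ext rfl
    · exact Ideal.Quotient.ringHom_ext rfl
    · obtain ⟨a, rfl⟩ := Ideal.Quotient.mk_surjective a
      exact ⟨j₀, Ideal.Quotient.mk _ a, rfl⟩
    · obtain ⟨a, rfl⟩ := Ideal.Quotient.mk_surjective x
      have ha : a ∈ I := Ideal.Quotient.eq_zero_iff_mem.1 hx
      refine ⟨⟨J.1 ⊔ Ideal.span {a}, Submodule.FG.sup J.2.1 (Submodule.fg_span (Set.finite_singleton a)),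
        sup_le J.2.2 ((Ideal.span_singleton_le_iff_mem I).2 ha)⟩, (le_sup_left : J.1 ≤ _),
        Ideal.Quotient.eq_zero_iff_mem.2 (Ideal.mem_sup_right (Ideal.mem_span_singleton_self a))⟩
  haveI : Nontrivial R := Ideal.Quotient.nontrivial_iff.2 fun h0 =>
    (maximalIdeal.isMaximal A).ne_top (top_le_iff.1 (h0 ▸ h.le_max))
  haveI : IsLocalRing R := IsLocalRing.of_surjective' (Ideal.Quotient.mk I) Ideal.Quotient.mk_surjective
  haveI : IsLocalHom (algebraMap A R) := IsLocalHom.of_surjective _ Ideal.Quotient.mk_surjective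
  obtain ⟨S₀, N₀, _, _, _, _, _, _, hpo₀, _, _, _, _, _, _, f₀, hf₀⟩ := exists_models (A := A) (S := S) N R
  haveI := hpo₀
  haveI : Algebra.IsPushout A R S S₀ := Algebra.IsPushout.symm inferInstance
  obtain ⟨Q₀, hQ₀, hQ₀m, hQ₀q⟩ := PureColimLib.exists_prime_over (A' := A) (B' := S) (A := R) (B := S₀) (maximalIdeal R) q
    ((maximalIdeal_comap (algebraMap A R)).trans (q.over_def (maximalIdeal A)))
  haveI := hQ₀
  haveI : Module.Flat R (LocalizedModule Q₀.primeCompl N₀) := h.flat S₀ N₀ f₀ hf₀ Q₀ hQ₀q hQ₀m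
  let Sys := FlatStage.sysOfDirected hcolim
  obtain ⟨k, -, hk⟩ := FlatStage.exists_stage (A := A) (B := S) (M := N) Sys j₀ S₀ N₀ f₀ hf₀ ⟨Q₀, inferInstance⟩
  dsimp only [Sys, FlatStage.sysOfDirected] at k hk
  have hIJ : I ≤ k.1 := by
    let Rk := A ⧸ k.1
    haveI : Nontrivial Rk := Ideal.Quotient.nontrivial_iff.2 fun h0 =>
      (maximalIdeal.isMaximal A).ne_top (top_le_iff.1 (h0 ▸ k.2.2.trans h.le_max))
    haveI : IsLocalRing Rk := IsLocalRing.of_surjective' (Ideal.Quotient.mk k.1) Ideal.Quotient.mk_surjective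
    haveI : IsLocalHom (algebraMap A Rk) := IsLocalHom.of_surjective _ Ideal.Quotient.mk_surjective
    obtain ⟨S', N', _, _, _, _, _, _, hpo', _, _, _, _, _, _, f', hf'⟩ := exists_models (A := A) (S := S) N Rk
    haveI := hpo'
    haveI : Algebra.IsPushout A Rk S S' := Algebra.IsPushout.symm inferInstance
    let β : S' →ₐ[A] S₀ := Algebra.pushoutDesc S' (IsScalarTower.toAlgHom A S S₀)
      ((IsScalarTower.toAlgHom A R S₀).comp (IsScalarTower.toAlgHom A Rk R)) fun _ _ => Commute.all _ _
    have hmem := hk S' N' f' hf' β.toRingHom (fun r => by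
      show β (algebraMap Rk S' r) = _
      rw [Algebra.pushoutDesc_right]
      rfl) (fun b => by
      show β (algebraMap S S' b) = _
      rw [Algebra.pushoutDesc_left]
      rfl)
    have huniq : ∀ (Q : Ideal S') [Q.IsPrime], Q.comap (algebraMap S S') = q → Q = Q₀.comap β.toRingHom := by
      intro Q _ hQq
      refine Ideal.comap_injective_of_surjective (algebraMap S S') (fun c => ?_) (hQq.trans ?_)
      · obtain ⟨z, rfl⟩ := (Algebra.IsPushout.equiv A Rk S S').surjective c
        obtain ⟨b, rfl⟩ := TensorProduct.mk_surjective A S Rk Ideal.Quotient.mk_surjective z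
        exact ⟨b, by simp [Algebra.IsPushout.equiv_tmul]⟩
      · rw [Ideal.comap_comap, show β.toRingHom.comp (algebraMap S S') = algebraMap S S₀ from
          RingHom.ext fun b => by
            show β (algebraMap S S' b) = _
            rw [Algebra.pushoutDesc_left]
            rfl, hQ₀q]
    have h1 := h.vanish Rk S' N' f' hf' (fun Q _ hQq _ => by
      obtain rfl := huniq Q hQq
      exact hmem)
    intro a ha
    have h2 : algebraMap A Rk a ∈ I.map (algebraMap A Rk) := Ideal.mem_map_of_mem _ ha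
    rw [h1, Ideal.mem_bot] at h2
    exact Ideal.Quotient.eq_zero_iff_mem.1 h2
  rw [le_antisymm hIJ k.2.2]
  exact k.2.1

end Groth.Agent.FlatIdealLib
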