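import Groth.Agent.FlatIdealLib.Basic

/-!
# Ideals of the flat locus over arbitrary pointed test rings, and along compact sets
-/

set_option autoImplicit false
set_option linter.style.haveILetI false
set_option backward.isDefEq.respectTransparency false
set_option backward.isDefEq.respectTransparency.types false
set_option maxHeartbeats 2000000
set_option synthInstance.maxHeartbeats 100000

universe u

open TensorProduct IsLocalRing

noncomputable section

namespace Groth.Agent.FlatIdealLib

/-- The representing property at a prime of an arbitrary test ring. -/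
theorem Rep.atPrime {A S : Type u} [CommRing A] [IsLocalRing A] [CommRing S] [Algebra A S] {N : Type u} [AddCommGroup N]
    [Module S N] {q : Ideal S} {I : Ideal A} (h : Rep A S N q I)
    (A'' : Type u) [CommRing A''] [Algebra A A''] (p : Ideal A'') [p.IsPrime] (hp : p.comap (algebraMap A A'') = maximalIdeal A)
    (S'' N'' : Type u) [CommRing S''] [Algebra S S''] [Algebra A'' S''] [Algebra A S''] [IsScalarTower A S S'']
    [IsScalarTower A A'' S''] [Algebra.IsPushout A S A'' S''] [AddCommGroup N''] [Module S'' N''] [Module S N'']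
    [IsScalarTower S S'' N''] [Module A'' N''] [IsScalarTower A'' S'' N''] (f : N →ₗ[S] N'') (hf : IsBaseChange S'' f) :
    (∀ (Q : Ideal S'') [Q.IsPrime], Q.comap (algebraMap S S'') = q → Q.comap (algebraMap A'' S'') = p →
      FlatCA.FlatAt A'' Q N'') ↔ ∀ a ∈ I, algebraMap A (Localization.AtPrime p) a = 0 := by
  let A' := Localization.AtPrime p
  haveI : IsLocalHom (algebraMap A A') := ⟨fun a ha => by
    by_contra hu
    have h1 : a ∈ maximalIdeal A := hu
    rw [← hp, Ideal.mem_comap] at h1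
    rw [IsScalarTower.algebraMap_apply A A'' A', IsLocalization.AtPrime.isUnit_to_map_iff A' p] at ha
    exact ha h1⟩
  obtain ⟨S', N', _, _, _, _, _, _, hpo, _, _, _, _, _, _, g, hg⟩ := exists_models (A := A) (S := S) N A'
  haveI := hpo
  have hI : (I.map (algebraMap A A') = ⊥) ↔ ∀ a ∈ I, algebraMap A A' a = 0 := by
    rw [Ideal.map_eq_bot_iff_le_ker]
    rfl
  rw [← hI, ← h A' S' N' g hg]
  let τ : S'' →ₐ[A] S' := Algebra.pushoutDesc S'' (IsScalarTower.toAlgHom A S S')
    ((IsScalarTower.toAlgHom A A' S').comp (IsScalarTower.toAlgHom A A'' A')) fun _ _ => Commute.all _ _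
  letI : Algebra S'' S' := τ.toRingHom.toAlgebra
  haveI : IsScalarTower S S'' S' := IsScalarTower.of_algebraMap_eq (R := S) (S := S'') (A := S') fun x => by
    show _ = τ (algebraMap S S'' x)
    rw [Algebra.pushoutDesc_left]
    rfl
  letI : Algebra A'' S' := ((algebraMap A' S').comp (algebraMap A'' A')).toAlgebra
  haveI : IsScalarTower A'' A' S' := .of_algebraMap_eq' rfl
  haveI : IsScalarTower A'' S'' S' := IsScalarTower.of_algebraMap_eq (R := A'') (S := S'') (A := S') fun x => by
    show _ = τ (algebraMap A'' S'' x)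
    rw [Algebra.pushoutDesc_right]
    rfl
  haveI : IsScalarTower A S'' S' := IsScalarTower.of_algebraMap_eq (R := A) (S := S'') (A := S') fun x => (τ.commutes x).symm
  haveI : Algebra.IsPushout A A'' S S'' := Algebra.IsPushout.symm inferInstance
  haveI : Algebra.IsPushout A A' S S' := Algebra.IsPushout.symm inferInstance
  haveI hpo' : Algebra.IsPushout A'' A' S'' S' :=
    (Algebra.IsPushout.comp_iff (R := A) (S := A'') (R' := S) (S' := S'') (T := A') (T' := S')).1 inferInstance
  haveI : Algebra.IsPushout A'' S'' A' S' := hpo'.symm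
  haveI : Module.Flat A'' A' := IsLocalization.flat A' p.primeCompl
  haveI : Module.Flat S'' S' := Module.Flat.isBaseChange A'' S'' A' S' (Algebra.IsPushout.out : IsBaseChange S'' _)
  letI : Module S'' N' := Module.compHom N' (algebraMap S'' S')
  haveI : IsScalarTower S'' S' N' := .of_algebraMap_smul fun _ _ => rfl
  haveI : IsScalarTower S S'' N' := IsScalarTower.of_algebraMap_smul (R := S) (A := S'') (M := N') fun s x => by
    show algebraMap S'' S' (algebraMap S S'' s) • x = s • x
    rw [← IsScalarTower.algebraMap_apply, algebraMap_smul]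
  letI : Module A'' N' := Module.compHom N' (algebraMap A'' A')
  haveI : IsScalarTower A'' A' N' := .of_algebraMap_smul fun _ _ => rfl
  haveI : IsScalarTower A'' S' N' := IsScalarTower.of_algebraMap_smul (R := A'') (A := S') (M := N') fun a x => by
    rw [IsScalarTower.algebraMap_apply A'' A' S', algebraMap_smul, algebraMap_smul]
  let θ : N'' →ₗ[S''] N' := hf.lift g
  have hθ : IsBaseChange S' θ := IsBaseChange.of_comp hf (h := θ) (by
    rw [show (θ.restrictScalars S).comp f = g from hf.lift_comp g]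
    exact hg)
  have hflat : ∀ (Q : Ideal S') [Q.IsPrime], (FlatCA.FlatAt A'' Q N' ↔ FlatCA.FlatAt A' Q N') := fun Q _ => by
    unfold FlatCA.FlatAt
    exact (Module.flat_iff_of_isLocalization A' p.primeCompl (LocalizedModule Q.primeCompl N')).symm
  constructor
  · intro hQ Q _ hQq hQm
    haveI : (Q.comap (algebraMap S'' S')).IsPrime := Ideal.IsPrime.comap _
    refine (hflat Q).1 ((FlatAboveLib.flatAt_iff hθ _ Q rfl).2 (hQ _ ?_ ?_))
    · rw [Ideal.comap_comap, ← IsScalarTower.algebraMap_eq, hQq]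
    · rw [Ideal.comap_comap, ← IsScalarTower.algebraMap_eq, IsScalarTower.algebraMap_eq A'' A' S', ← Ideal.comap_comap, hQm]
      exact IsLocalization.AtPrime.comap_maximalIdeal A' p
  · intro hQ P _ hPq hPp
    obtain ⟨Q, hQpr, hQm, hQP⟩ := PureColimLib.exists_prime_over (A' := A'') (B' := S'') (A := A') (B := S') (maximalIdeal A') P
      ((IsLocalization.AtPrime.comap_maximalIdeal A' p).trans hPp.symm)
    haveI := hQpr
    refine (FlatAboveLib.flatAt_iff hθ P Q hQP.symm).1 ((hflat Q).2 (hQ Q ?_ hQm))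
    rw [IsScalarTower.algebraMap_eq S S'' S', ← Ideal.comap_comap, hQP, hPq]

/-- Flatness at one point of the limit is reached at a stage. -/
theorem exists_locus_stage {A : Type u} [CommRing A] {ι : Type u} [Preorder ι] {G : ι → Type u} [∀ i, CommRing (G i)]
    [∀ i, Algebra A (G i)] {g : ∀ i j, i ≤ j → G i →ₐ[A] G j} {R : Type u} [CommRing R] [Algebra A R] [∀ i, Algebra (G i) R]
    [∀ i, IsScalarTower A (G i) R] (hcolim : FlatCA.IsDirectedColimitRing G (fun i j h => (g i j h).toRingHom) R)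
    {S : Type u} [CommRing S] [Algebra A S] [Algebra.FinitePresentation A S] (N : Type u) [AddCommGroup N] [Module S N]
    [Module A N] [IsScalarTower A S N] [Module.FinitePresentation S N] (j₀ : ι)
    [Algebra S (R ⊗[A] S)] (hS : ∀ b : S, algebraMap S (R ⊗[A] S) b = (1 : R) ⊗ₜ[A] b) [IsScalarTower A S (R ⊗[A] S)]
    [Algebra.IsPushout A R S (R ⊗[A] S)] (q : PrimeSpectrum (R ⊗[A] S))
    (hflat : Module.Flat R (LocalizedModule q.asIdeal.primeCompl ((R ⊗[A] S) ⊗[S] N))) :
    ∃ k, PrimeSpectrum.comap (Algebra.TensorProduct.map (IsScalarTower.toAlgHom A (G k) R) (AlgHom.id A S)).toRingHom q ∈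
      FlatStage.locus (A := A) S N (G k) := by
  haveI := hflat
  let Sys := FlatStage.sysOfDirected hcolim
  obtain ⟨k, -, hk⟩ := FlatStage.exists_stage (A := A) (B := S) (M := N) Sys j₀ (R ⊗[A] S) ((R ⊗[A] S) ⊗[S] N)
    (TensorProduct.mk S (R ⊗[A] S) N 1) (TensorProduct.isBaseChange _ _ _) q
  dsimp only [Sys, FlatStage.sysOfDirected] at k hk
  letI : Algebra S (G k ⊗[A] S) := Algebra.TensorProduct.rightAlgebra
  exact ⟨k, hk (G k ⊗[A] S) ((G k ⊗[A] S) ⊗[S] N) (TensorProduct.mk S _ N 1) (TensorProduct.isBaseChange S N _)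
    (Algebra.TensorProduct.map (IsScalarTower.toAlgHom A (G k) R) (AlgHom.id A S)).toRingHom (fun r => by
      show Algebra.TensorProduct.map (IsScalarTower.toAlgHom A (G k) R) (AlgHom.id A S) (r ⊗ₜ[A] (1 : S)) = _
      rw [Algebra.TensorProduct.map_tmul, map_one]
      rfl) (fun b => by
      rw [hS]
      show Algebra.TensorProduct.map (IsScalarTower.toAlgHom A (G k) R) (AlgHom.id A S) ((1 : G k) ⊗ₜ[A] b) = _
      rw [Algebra.TensorProduct.map_tmul, map_one]
      rfl)⟩

/-- Flatness along a compact set of the closed fibre over `A/I` holds over `A/J` for some finitely generated `J ⊆ I`. -/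
theorem exists_fg_of_isCompact {A S : Type u} [CommRing A] [IsLocalRing A] [CommRing S] [Algebra A S]
    [Algebra.FinitePresentation A S] (N : Type u) [AddCommGroup N] [Module S N] [Module A N] [IsScalarTower A S N]
    [Module.FinitePresentation S N] (Z : Set (PrimeSpectrum S)) (hZc : IsCompact Z)
    (hZ : ∀ z ∈ Z, z.asIdeal.comap (algebraMap A S) = maximalIdeal A) (J : Z → Ideal A)
    (hJ : ∀ z : Z, Parts A S N z.1.asIdeal (J z)) (I : Ideal A) (hI : I ≤ maximalIdeal A) (hJI : ∀ z, J z ≤ I) :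
    ∃ I₀ : Ideal A, I₀.FG ∧ I₀ ≤ I ∧ ∀ z, J z ≤ I₀ := by
  classical
  let ι := {J : Ideal A // J.FG ∧ J ≤ I}
  let G : ι → Type u := fun J => A ⧸ J.1
  let R := A ⧸ I
  letI : ∀ J : ι, Algebra (G J) R := fun J => (Ideal.Quotient.factor J.2.2).toAlgebra
  haveI : ∀ J : ι, IsScalarTower A (G J) R := fun J => IsScalarTower.of_algebraMap_eq (R := A) (S := G J) (A := R) fun _ => rfl
  let g : ∀ J J' : ι, J ≤ J' → G J →ₐ[A] G J' := fun J J' hJ => Ideal.Quotient.factorₐ A hJ
  haveI : IsDirected ι (· ≤ ·) := ⟨fun J J' => ⟨⟨J.1 ⊔ J'.1, Submodule.FG.sup J.2.1 J'.2.1, sup_le J.2.2 J'.2.2⟩,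
    (le_sup_left : J.1 ≤ _), (le_sup_right : J'.1 ≤ _)⟩⟩
  let j₀ : ι := ⟨⊥, Submodule.fg_bot, bot_le⟩
  have hcolim : FlatCA.IsDirectedColimitRing G (fun i j h => (g i j h).toRingHom) R := by
    refine ⟨inferInstance, ⟨j₀⟩, fun J => ?_, fun J J' J'' h1 h2 => ?_, fun J J' h1 => ?_, fun a => ?_, fun J x hx => ?_⟩
    · exact Ideal.Quotient.ringHom_ext rfl
    · exact Ideal.Quotient.ringHom_ext rfl
    · exact Ideal.Quotient.ringHom_ext rfl
    · obtain ⟨a, rfl⟩ := Ideal.Quotient.mk_surjective a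
      exact ⟨j₀, Ideal.Quotient.mk _ a, rfl⟩
    · obtain ⟨a, rfl⟩ := Ideal.Quotient.mk_surjective x
      have ha : a ∈ I := Ideal.Quotient.eq_zero_iff_mem.1 hx
      refine ⟨⟨J.1 ⊔ Ideal.span {a}, Submodule.FG.sup J.2.1 (Submodule.fg_span (Set.finite_singleton a)),
        sup_le J.2.2 ((Ideal.span_singleton_le_iff_mem I).2 ha)⟩, (le_sup_left : J.1 ≤ _),
        Ideal.Quotient.eq_zero_iff_mem.2 (Ideal.mem_sup_right (Ideal.mem_span_singleton_self a))⟩
  haveI : Nontrivial R := Ideal.Quotient.nontrivial_iff.2 fun h0 =>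
    (maximalIdeal.isMaximal A).ne_top (top_le_iff.1 (h0 ▸ hI))
  haveI : IsLocalRing R := IsLocalRing.of_surjective' (Ideal.Quotient.mk I) Ideal.Quotient.mk_surjective
  haveI : IsLocalHom (algebraMap A R) := IsLocalHom.of_surjective _ Ideal.Quotient.mk_surjective
  let β : ∀ k : ι, G k ⊗[A] S →ₐ[A] R ⊗[A] S := fun k =>
    Algebra.TensorProduct.map (IsScalarTower.toAlgHom A (G k) R) (AlgHom.id A S)
  let S₀ := R ⊗[A] S
  letI : Algebra S S₀ := Algebra.TensorProduct.rightAlgebra
  let N₀ := S₀ ⊗[S] N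
  let F : Set (PrimeSpectrum S₀) := PrimeSpectrum.comap (algebraMap S S₀) ⁻¹' Z
  have hsurj : Function.Surjective (algebraMap S S₀) := fun c =>
    TensorProduct.mk_surjective A S R Ideal.Quotient.mk_surjective c
  have hF : IsCompact F :=
    ((PrimeSpectrum.isClosedEmbedding_comap_of_surjective _ _ hsurj)).isCompact_preimage hZc
  have hpt : ∀ q : F, ∃ k, PrimeSpectrum.comap (β k).toRingHom q.1 ∈ FlatStage.locus (A := A) S N (G k) := fun q => by
    let z : Z := ⟨_, q.2⟩
    have hzm : q.1.asIdeal.comap (algebraMap R S₀) = maximalIdeal R := by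
      haveI : (q.1.asIdeal.comap (algebraMap R S₀)).IsPrime := Ideal.IsPrime.comap _
      refine ((maximalIdeal.isMaximal R).eq_of_le (Ideal.IsPrime.ne_top inferInstance) fun r hr => ?_).symm
      obtain ⟨a, rfl⟩ := Ideal.Quotient.mk_surjective r
      have h1 : algebraMap A S a ∈ z.1.asIdeal := by
        have : a ∈ z.1.asIdeal.comap (algebraMap A S) := by
          rw [hZ _ z.2]
          exact fun hu => hr (hu.map _)
        exact this
      show algebraMap R S₀ (algebraMap A R a) ∈ q.1.asIdeal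
      rw [← IsScalarTower.algebraMap_apply A R S₀, IsScalarTower.algebraMap_apply A S S₀]
      exact h1
    haveI : z.1.asIdeal.IsPrime := z.1.2
    have hz : q.1.asIdeal.comap (algebraMap S S₀) = z.1.asIdeal := rfl
    have hI0 : (J z).map (algebraMap A R) = ⊥ := by
      rw [Ideal.map_eq_bot_iff_le_ker]
      intro a ha
      exact Ideal.Quotient.eq_zero_iff_mem.2 (hJI z ha)
    have hrep0 := (hJ z).rep R S₀ N₀ (TensorProduct.mk S S₀ N 1) (TensorProduct.isBaseChange S N S₀)
    have hrep := hrep0.mpr hI0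
    exact exists_locus_stage hcolim N j₀ (fun b => rfl) q.1 (hrep q.1.asIdeal hz hzm)
  choose idx hidx using hpt
  obtain ⟨t, ht⟩ := hF.elim_finite_subcover
    (fun q : F => PrimeSpectrum.comap (β (idx q)).toRingHom ⁻¹' FlatStage.locus (A := A) S N (G (idx q)))
    (fun q => (FlatStage.isOpen_locus _).preimage (PrimeSpectrum.continuous_comap _))
    (fun q hq => Set.mem_iUnion.2 ⟨⟨q, hq⟩, hidx ⟨q, hq⟩⟩)
  haveI : Nonempty ι := ⟨j₀⟩
  obtain ⟨k, hk⟩ := Finset.exists_le (insert j₀ (t.image idx))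
  refine ⟨k.1, k.2.1, k.2.2, fun z => ?_⟩
  haveI : z.1.asIdeal.IsPrime := z.1.2
  let Rk := G k
  haveI : Nontrivial Rk := Ideal.Quotient.nontrivial_iff.2 fun h0 =>
    (maximalIdeal.isMaximal A).ne_top (top_le_iff.1 (h0 ▸ k.2.2.trans hI))
  haveI : IsLocalRing Rk := IsLocalRing.of_surjective' (Ideal.Quotient.mk k.1) Ideal.Quotient.mk_surjective
  haveI : IsLocalHom (algebraMap A Rk) := IsLocalHom.of_surjective _ Ideal.Quotient.mk_surjective
  letI : Algebra S (Rk ⊗[A] S) := Algebra.TensorProduct.rightAlgebra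
  have hsk : Function.Surjective (algebraMap S (Rk ⊗[A] S)) := fun c =>
    TensorProduct.mk_surjective A S Rk Ideal.Quotient.mk_surjective c
  have h1 := (hJ z).vanish Rk (Rk ⊗[A] S) ((Rk ⊗[A] S) ⊗[S] N) (TensorProduct.mk S _ N 1) (TensorProduct.isBaseChange S N _)
    (fun Q _ hQz _ => by
      obtain ⟨Q₀, hQ₀, -, hQ₀z⟩ := PureColimLib.exists_prime_over (A' := A) (B' := S) (A := R) (B := S₀) (maximalIdeal R)
        z.1.asIdeal ((maximalIdeal_comap (algebraMap A R)).trans (hZ _ z.2).symm)
      let Q' : F := ⟨⟨Q₀, hQ₀⟩, show PrimeSpectrum.comap (algebraMap S S₀) ⟨Q₀, hQ₀⟩ ∈ Z by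
        rw [show PrimeSpectrum.comap (algebraMap S S₀) ⟨Q₀, hQ₀⟩ = z.1 from PrimeSpectrum.ext hQ₀z]
        exact z.2⟩
      obtain ⟨i, hit, hiQ⟩ : ∃ i ∈ t, PrimeSpectrum.comap (β (idx i)).toRingHom Q'.1 ∈ FlatStage.locus (A := A) S N (G (idx i)) := by
        obtain ⟨i, hi⟩ := Set.mem_iUnion.1 (ht Q'.2)
        obtain ⟨hit, hiQ⟩ := Set.mem_iUnion.1 hi
        exact ⟨i, hit, hiQ⟩
      have hik : idx i ≤ k := hk _ (Finset.mem_insert_of_mem (Finset.mem_image_of_mem _ hit))
      have hT : (β k).comp (Algebra.TensorProduct.map (g _ _ hik) (AlgHom.id A S)) = β (idx i) :=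
        Algebra.TensorProduct.ext' fun r b => by
          obtain ⟨r, rfl⟩ := Ideal.Quotient.mk_surjective r
          simp only [β, AlgHom.comp_apply, Algebra.TensorProduct.map_tmul]
          rfl
      have hmem : PrimeSpectrum.comap (β k).toRingHom Q'.1 ∈ FlatStage.locus (A := A) S N (G k) := by
        refine FlatStage.comap_locus_le (g _ _ hik) ?_
        rw [Set.mem_preimage, ← PrimeSpectrum.comap_comp_apply]
        rw [← hT] at hiQ
        exact hiQ
      rw [show PrimeSpectrum.comap (β k).toRingHom Q'.1 = ⟨Q, inferInstance⟩ from PrimeSpectrum.ext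
        (Ideal.comap_injective_of_surjective _ hsk (by
          show (Q₀.comap (β k).toRingHom).comap _ = _
          rw [Ideal.comap_comap, show (β k).toRingHom.comp (algebraMap S (Rk ⊗[A] S)) = algebraMap S S₀ from
            RingHom.ext fun b => by
              show Algebra.TensorProduct.map (IsScalarTower.toAlgHom A (G k) R) (AlgHom.id A S) ((1 : G k) ⊗ₜ[A] b) = (1 : R) ⊗ₜ[A] b
              rw [Algebra.TensorProduct.map_tmul, map_one]
              rfl, hQ₀z, hQz]))] at hmem
      exact hmem)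
  intro a ha
  have h2 : algebraMap A Rk a ∈ (J z).map (algebraMap A Rk) := Ideal.mem_map_of_mem _ ha
  rw [h1, Ideal.mem_bot] at h2
  exact Ideal.Quotient.eq_zero_iff_mem.1 h2

end Groth.Agent.FlatIdealLib
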