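import Groth.Agent.PullbackMod.Flat
import Groth.Agent.FlattenIdealLib.Basic
import Groth.Agent.S6918

/-!
# Flatness of base changes of localizations and the smallest ideal of flatness
-/

set_option autoImplicit false
set_option linter.style.haveILetI false
set_option backward.isDefEq.respectTransparency false
set_option backward.isDefEq.respectTransparency.types false
set_option maxHeartbeats 1000000

universe u

open TensorProduct IsLocalRing

noncomputable section

namespace Groth.Agent.FlatIdealLib

section

variable {A A' B B' : Type u} [CommRing A] [CommRing A'] [CommRing B] [CommRing B']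
  [Algebra A A'] [Algebra A B] [Algebra A' B'] [Algebra B B'] [Algebra A B']
  [IsScalarTower A A' B'] [IsScalarTower A B B'] [Algebra.IsPushout A A' B B']
  {M M' : Type u} [AddCommGroup M] [Module B M] [Module A M] [IsScalarTower A B M]
  [AddCommGroup M'] [Module B' M'] [Module B M'] [Module A' M'] [IsScalarTower B B' M'] [IsScalarTower A' B' M']

/-- The base change of a localization is a localization of the base change. -/
theorem isLocalizedModule_baseChange (θ : M →ₗ[B] M') (hθ : IsBaseChange B' θ) (T : Submonoid B) :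
    ∃ g : M' →ₗ[B'] B' ⊗[B] LocalizedModule T M, IsLocalizedModule (Algebra.algebraMapSubmonoid B' T) g := by
  let N := LocalizedModule T M
  let mk := LocalizedModule.mkLinearMap T M
  haveI : IsLocalizedModule T (mk.rTensor B') := IsLocalizedModule.rTensor (R := B) (A := B) (S := T) mk
  haveI h0 : IsLocalizedModule T
      ((TensorProduct.comm B N B').toLinearMap ∘ₗ mk.rTensor B' ∘ₗ (TensorProduct.comm B B' M).toLinearMap) :=
    inferInstance
  let L : B' ⊗[B] M →ₗ[B'] B' ⊗[B] N := TensorProduct.AlgebraTensorModule.lTensor B' B' mk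
  haveI : IsLocalizedModule T (L.restrictScalars B) := by
    convert h0 using 1
    ext b m
    rfl
  haveI := PullbackMod.isLocalizedModule_algebraMapSubmonoid (B' := B') T L
  exact ⟨L ∘ₗ hθ.equiv.symm.toLinearMap, inferInstance⟩

/-- The base change of a localization is flat when the base change is flat at the primes it sees. -/
theorem flat_tensor_localized (θ : M →ₗ[B] M') (hθ : IsBaseChange B' θ) (T : Submonoid B)
    (h : ∀ P : Ideal B', [P.IsPrime] → Disjoint (Algebra.algebraMapSubmonoid B' T : Set B') (P : Set B') →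
      Module.Flat A' (LocalizedModule P.primeCompl M')) :
    Module.Flat A' (A' ⊗[A] LocalizedModule T M) := by
  obtain ⟨g, hg⟩ := isLocalizedModule_baseChange θ hθ T
  haveI : Module.Flat A' (B' ⊗[B] LocalizedModule T M) :=
    FlatLocus.flat_localized_of_forall_prime (A := A') (C := B') (M := M') (Algebra.algebraMapSubmonoid B' T) g h
  exact Module.Flat.of_linearEquiv (Algebra.IsPushout.cancelBaseChange A A' B B' (LocalizedModule T M)).symm

/-- Conversely. -/
theorem flat_localized_of_flat_tensor (θ : M →ₗ[B] M') (hθ : IsBaseChange B' θ) (T : Submonoid B)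
    [Module.Flat A' (A' ⊗[A] LocalizedModule T M)] (P : Submonoid B') (hT : Algebra.algebraMapSubmonoid B' T ≤ P) :
    Module.Flat A' (LocalizedModule P M') := by
  obtain ⟨g, hg⟩ := isLocalizedModule_baseChange θ hθ T
  haveI : Module.Flat A' (B' ⊗[B] LocalizedModule T M) :=
    Module.Flat.of_linearEquiv (Algebra.IsPushout.cancelBaseChange A A' B B' (LocalizedModule T M))
  exact FlatLocus.flat_localized_of_le (A := A') (C := B') (M := M') _ P hT g (LocalizedModule.mkLinearMap P M')

end

/-- Vanishing of the ideal gives flatness above the closed point. -/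
theorem flatAt_of_le_ker {R S R' S' : Type u} [CommRing R] [IsLocalRing R]
    [CommRing S] [CommRing R'] [IsLocalRing R'] [CommRing S']
    [Algebra R S] [Algebra R R'] [IsLocalHom (algebraMap R R')] [Algebra S S'] [Algebra R' S'] [Algebra R S']
    [IsScalarTower R S S'] [IsScalarTower R R' S'] [Algebra.IsPushout R S R' S']
    {M M' : Type u} [AddCommGroup M] [Module S M] [Module R M] [IsScalarTower R S M]
    [AddCommGroup M'] [Module S' M'] [Module R' M'] [IsScalarTower R' S' M'] [Module S M'] [IsScalarTower S S' M']
    (f : M →ₗ[S] M') (hf : IsBaseChange S' f) (I : Ideal R)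
    (hI : ∀ (q : Ideal S) [q.IsPrime], q.comap (algebraMap R S) = maximalIdeal R →
        Module.Flat (R ⧸ I) ((R ⧸ I) ⊗[R] LocalizedModule q.primeCompl M))
    (hker : I ≤ RingHom.ker (algebraMap R R')) (q' : Ideal S') [q'.IsPrime]
    (hq' : q'.comap (algebraMap R' S') = maximalIdeal R') : FlatCA.FlatAt R' q' M' := by
  let q := q'.comap (algebraMap S S')
  have hq : q.comap (algebraMap R S) = maximalIdeal R := by
    rw [Ideal.comap_comap, ← IsScalarTower.algebraMap_eq, IsScalarTower.algebraMap_eq R R' S', ← Ideal.comap_comap, hq',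
      maximalIdeal_comap]
  haveI := hI q hq
  haveI : Algebra.IsPushout R R' S S' := Algebra.IsPushout.symm inferInstance
  let φ : (R ⧸ I) →ₐ[R] R' := Ideal.Quotient.liftₐ I (Algebra.ofId R R') fun a ha => hker ha
  haveI : Module.Flat R' (R' ⊗[R] LocalizedModule q.primeCompl M) :=
    FlattenIdealLib.flat_map (R := R) (X := LocalizedModule q.primeCompl M) φ
  exact flat_localized_of_flat_tensor (A := R) (A' := R') f hf q.primeCompl q'.primeCompl (by rintro _ ⟨x, hx, rfl⟩; exact hx)

/-- Over a Noetherian test ring flatness above the closed point forces the vanishing of the least ideal. -/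
theorem le_ker_of_flatAt {R S R' S' : Type u} [CommRing R] [IsLocalRing R]
    [CommRing S] [CommRing R'] [IsLocalRing R'] [IsNoetherianRing R'] [CommRing S']
    [Algebra R S] [Algebra R R'] [IsLocalHom (algebraMap R R')] [Algebra S S'] [Algebra R' S'] [Algebra R S']
    [IsScalarTower R S S'] [IsScalarTower R R' S'] [Algebra.IsPushout R S R' S']
    {M M' : Type u} [AddCommGroup M] [Module S M] [Module R M] [IsScalarTower R S M]
    [AddCommGroup M'] [Module S' M'] [Module R' M'] [IsScalarTower R' S' M'] [Module S M'] [IsScalarTower S S' M']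
    (f : M →ₗ[S] M') (hf : IsBaseChange S' f) (I : Ideal R)
    (hmin : ∀ J : Ideal R, (∀ (q : Ideal S) [q.IsPrime], q.comap (algebraMap R S) = maximalIdeal R →
        Module.Flat (R ⧸ J) ((R ⧸ J) ⊗[R] LocalizedModule q.primeCompl M)) → I ≤ J)
    (h : ∀ (q' : Ideal S') [q'.IsPrime], q'.comap (algebraMap R' S') = maximalIdeal R' → FlatCA.FlatAt R' q' M') :
    I ≤ RingHom.ker (algebraMap R R') := by
  intro x hx
  rw [RingHom.mem_ker, ← Ideal.mem_bot,
    ← Ideal.iInf_pow_eq_bot_of_isLocalRing (maximalIdeal R') (maximalIdeal.isMaximal R').ne_top, Submodule.mem_iInf]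
  intro n
  let m' := maximalIdeal R'
  let R'' := R' ⧸ m' ^ n
  suffices hJ : I ≤ RingHom.ker (algebraMap R R'') by
    have h1 := hJ hx
    rw [RingHom.mem_ker, IsScalarTower.algebraMap_apply R R' R'', Ideal.Quotient.algebraMap_eq,
      Ideal.Quotient.eq_zero_iff_mem] at h1
    exact h1
  refine hmin _ fun q _ hq => ?_
  obtain ⟨S'', M'', _, _, _, _, _, _, hpo, _, _, _, _, _, _, g, hg⟩ :
      ∃ (S'' M'' : Type u) (_ : CommRing S'') (_ : Algebra S' S'') (_ : Algebra R'' S'') (_ : Algebra R' S'')
        (_ : IsScalarTower R' S' S'') (_ : IsScalarTower R' R'' S'') (_ : Algebra.IsPushout R' S' R'' S'')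
        (_ : AddCommGroup M'') (_ : Module S'' M'') (_ : Module S' M'') (_ : IsScalarTower S' S'' M'')
        (_ : Module R'' M'') (_ : IsScalarTower R'' S'' M'') (g : M' →ₗ[S'] M''), IsBaseChange S'' g := by
    letI : Algebra R'' (S' ⊗[R'] R'') := Algebra.TensorProduct.rightAlgebra
    letI : Module R'' ((S' ⊗[R'] R'') ⊗[S'] M') := Module.compHom _ (algebraMap R'' (S' ⊗[R'] R''))
    haveI : IsScalarTower R'' (S' ⊗[R'] R'') ((S' ⊗[R'] R'') ⊗[S'] M') := .of_algebraMap_smul fun _ _ => rfl
    exact ⟨S' ⊗[R'] R'', (S' ⊗[R'] R'') ⊗[S'] M', inferInstance, inferInstance, inferInstance, inferInstance, inferInstance,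
      inferInstance, inferInstance, inferInstance, inferInstance, inferInstance, inferInstance, inferInstance, inferInstance,
      TensorProduct.mk S' _ M' 1, TensorProduct.isBaseChange _ _ _⟩
  haveI := hpo
  -- flatness at every prime of the truncation
  have hflat : ∀ (P : Ideal S'') [P.IsPrime], Module.Flat R'' (LocalizedModule P.primeCompl M'') := by
    intro P _
    refine Groth.Agent.S6918.result (R := R') (S := S') m' (m'.map (algebraMap R' R'')) le_rfl g hg ⊥
      (fun q' _ hle => h q' ?_) P ?_
    · exact ((maximalIdeal.isMaximal R').eq_of_le (Ideal.IsPrime.ne_top inferInstance)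
        (Ideal.map_le_iff_le_comap.1 (le_sup_left.trans hle))).symm
    · rw [Ideal.map_bot, sup_bot_eq, Ideal.map_map, ← IsScalarTower.algebraMap_eq, Ideal.map_le_iff_le_comap]
      intro a ha
      refine Ideal.IsPrime.mem_of_pow_mem inferInstance n ?_
      rw [Ideal.mem_comap, map_pow, ← map_pow, IsScalarTower.algebraMap_apply R' R'' S'', Ideal.Quotient.algebraMap_eq,
        Ideal.Quotient.eq_zero_iff_mem.2 (Ideal.pow_mem_pow ha n), map_zero]
      exact zero_mem _
  letI : Algebra S S'' := ((algebraMap S' S'').comp (algebraMap S S')).toAlgebra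
  letI : Algebra R S'' := ((algebraMap S' S'').comp (algebraMap R S')).toAlgebra
  haveI : IsScalarTower S S' S'' := .of_algebraMap_eq' rfl
  haveI : IsScalarTower R S S'' := IsScalarTower.of_algebraMap_eq (R := R) (S := S) (A := S'') fun a => by
    show algebraMap S' S'' (algebraMap R S' a) = algebraMap S' S'' (algebraMap S S' (algebraMap R S a))
    rw [← IsScalarTower.algebraMap_apply R S S']
  haveI : IsScalarTower R S' S'' := .of_algebraMap_eq' rfl
  haveI : IsScalarTower R R' S'' := IsScalarTower.of_algebraMap_eq (R := R) (S := R') (A := S'') fun a => by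
    show algebraMap S' S'' (algebraMap R S' a) = _
    rw [IsScalarTower.algebraMap_apply R' S' S'', ← IsScalarTower.algebraMap_apply R R' S']
  haveI : IsScalarTower R R'' S'' := IsScalarTower.of_algebraMap_eq (R := R) (S := R'') (A := S'') fun a => by
    rw [IsScalarTower.algebraMap_apply R R' S'', IsScalarTower.algebraMap_apply R' R'' S'',
      ← IsScalarTower.algebraMap_apply R R' R'']
  haveI : Algebra.IsPushout R R' S S' := Algebra.IsPushout.symm inferInstance
  haveI : Algebra.IsPushout R' R'' S' S'' := Algebra.IsPushout.symm inferInstance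
  haveI : Algebra.IsPushout R R'' S S'' := (Algebra.IsPushout.comp_iff (R := R) (S := R') (R' := S) (S' := S') (T := R'') (T' := S'')).2 inferInstance
  letI : Module S M'' := Module.compHom M'' (algebraMap S S'')
  haveI : IsScalarTower S S'' M'' := .of_algebraMap_smul fun _ _ => rfl
  haveI : IsScalarTower S S' M'' := IsScalarTower.of_algebraMap_smul (R := S) (A := S') (M := M'') fun s x => by
    rw [← algebraMap_smul S'' (algebraMap S S' s) x, ← IsScalarTower.algebraMap_apply S S' S'', algebraMap_smul]
  let g' := (g.restrictScalars S).comp f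
  have hg' : IsBaseChange S'' g' := hf.comp hg
  haveI : Module.Flat R'' (R'' ⊗[R] LocalizedModule q.primeCompl M) :=
    flat_tensor_localized g' hg' q.primeCompl fun P _ _ => hflat P
  -- descent along the injective map
  let K := RingHom.ker (algebraMap R R'')
  let P₀ := R ⧸ K
  by_cases hK : K = ⊤
  · haveI : Subsingleton P₀ := Ideal.Quotient.subsingleton_iff.2 hK
    haveI : Subsingleton (P₀ ⊗[R] LocalizedModule q.primeCompl M) := Module.subsingleton P₀ _
    exact Module.Flat.of_free
  let φ : P₀ →ₐ[R] R'' := Ideal.Quotient.liftₐ K (Algebra.ofId R R'') fun a ha => ha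
  letI : Algebra P₀ R'' := φ.toRingHom.toAlgebra
  haveI : IsScalarTower R P₀ R'' := IsScalarTower.of_algebraMap_eq fun r => (φ.commutes r).symm
  haveI : Module.Flat R'' (R'' ⊗[P₀] (P₀ ⊗[R] LocalizedModule q.primeCompl M)) :=
    Module.Flat.of_linearEquiv (AlgebraTensorModule.cancelBaseChange R P₀ R'' R'' _)
  have hKm : K ≤ maximalIdeal R := le_maximalIdeal hK
  haveI : ((maximalIdeal R).map (Ideal.Quotient.mk K)).IsMaximal :=
    Ideal.IsMaximal.map_of_surjective_of_ker_le Ideal.Quotient.mk_surjective (by rwa [Ideal.mk_ker])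
  have hnil : IsNilpotent ((maximalIdeal R).map (Ideal.Quotient.mk K)) := by
    refine ⟨n, ?_⟩
    rw [← Ideal.map_pow, Ideal.zero_eq_bot, Ideal.map_eq_bot_iff_le_ker, Ideal.mk_ker]
    intro a ha
    rw [RingHom.mem_ker, IsScalarTower.algebraMap_apply R R' R'', Ideal.Quotient.algebraMap_eq,
      Ideal.Quotient.eq_zero_iff_mem]
    have h1 : a ∈ (maximalIdeal R' ^ n).comap (algebraMap R R') := by
      refine Ideal.le_comap_pow _ n ?_
      rwa [maximalIdeal_comap]
    exact h1
  haveI := FlatDescInjLib.free_of_flat_baseChange (R := P₀) (R' := R'') (M := P₀ ⊗[R] LocalizedModule q.primeCompl M)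
    (RingHom.kerLift_injective (algebraMap R R'')) _ hnil
  exact Module.Flat.of_free

end Groth.Agent.FlatIdealLib
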