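import Groth.Agent.FlatIdealLib.Step
import Groth.Agent.DevLib.Free
import Groth.Agent.PolLawBCLib.Norm
import Groth.Agent.Hensel.Etale

/-!
# Existence of the ideal of the flat locus over a henselian local ring
-/

set_option autoImplicit false
set_option linter.style.haveILetI false
set_option backward.isDefEq.respectTransparency false
set_option backward.isDefEq.respectTransparency.types false
set_option maxHeartbeats 2000000
set_option synthInstance.maxHeartbeats 100000

universe u

open TensorProduct IsLocalRing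

noncomputable section

namespace Groth.Agent.FlatIdealLib

/-- Transfer of the representing property between an algebra and one above it. -/
theorem rep_iff_of_algebra {A S C : Type u} [CommRing A] [IsLocalRing A] [CommRing S] [CommRing C] [Algebra A S] [Algebra A C]
    [Algebra S C] [IsScalarTower A S C] (N : Type u) [AddCommGroup N] [Module S N]
    (M : Type u) [AddCommGroup M] [Module C M] [Module S M] [IsScalarTower S C M] (h : N →ₗ[S] M)
    (q : Ideal S) (qC : Ideal C) (I : Ideal A)
    (key : ∀ (A' : Type u) [CommRing A'] [IsLocalRing A'] [Algebra A A'] [IsLocalHom (algebraMap A A')]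
      (S' N' C' M' : Type u) [CommRing S'] [CommRing C'] [Algebra S S'] [Algebra C C'] [Algebra A' S'] [Algebra A' C']
      [Algebra A S'] [Algebra A C'] [IsScalarTower A S S'] [IsScalarTower A C C'] [IsScalarTower A A' S'] [IsScalarTower A A' C']
      [Algebra.IsPushout A S A' S'] [Algebra.IsPushout A C A' C']
      [Algebra S' C'] [IsScalarTower A' S' C'] [Algebra S C'] [IsScalarTower S C C'] [IsScalarTower S S' C']
      [Algebra.IsPushout S S' C C']
      [AddCommGroup N'] [Module S' N'] [Module S N'] [IsScalarTower S S' N'] [Module A' N'] [IsScalarTower A' S' N']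
      [AddCommGroup M'] [Module C' M'] [Module C M'] [IsScalarTower C C' M'] [Module A' M'] [IsScalarTower A' C' M']
      [Module S' M'] [IsScalarTower S' C' M'] [Module S M'] [IsScalarTower S S' M'] [IsScalarTower S C M']
      [IsScalarTower A' S' M']
      (f : N →ₗ[S] N') (_ : IsBaseChange S' f) (g : M →ₗ[C] M') (_ : IsBaseChange C' g)
      (θ : N' →ₗ[S'] M') (_ : (θ.restrictScalars S).comp f = (g.restrictScalars S).comp h),
      ((∀ (Q : Ideal S') [Q.IsPrime], Q.comap (algebraMap S S') = q → Q.comap (algebraMap A' S') = maximalIdeal A' →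
          FlatCA.FlatAt A' Q N') ↔
        ∀ (Q : Ideal C') [Q.IsPrime], Q.comap (algebraMap C C') = qC → Q.comap (algebraMap A' C') = maximalIdeal A' →
          FlatCA.FlatAt A' Q M')) :
    Rep A C M qC I ↔ Rep A S N q I := by
  -- compatible models on the two sides
  have main : ∀ (A' : Type u) [CommRing A'] [IsLocalRing A'] [Algebra A A'] [IsLocalHom (algebraMap A A')]
      (S' N' C' M' : Type u) [CommRing S'] [CommRing C'] [Algebra S S'] [Algebra C C'] [Algebra A' S'] [Algebra A' C']
      [Algebra A S'] [Algebra A C'] [IsScalarTower A S S'] [IsScalarTower A C C'] [IsScalarTower A A' S'] [IsScalarTower A A' C']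
      [Algebra.IsPushout A S A' S'] [Algebra.IsPushout A C A' C']
      [AddCommGroup N'] [Module S' N'] [Module S N'] [IsScalarTower S S' N'] [Module A' N'] [IsScalarTower A' S' N']
      [AddCommGroup M'] [Module C' M'] [Module C M'] [IsScalarTower C C' M'] [Module A' M'] [IsScalarTower A' C' M']
      (f : N →ₗ[S] N') (_ : IsBaseChange S' f) (g : M →ₗ[C] M') (_ : IsBaseChange C' g),
      ((∀ (Q : Ideal S') [Q.IsPrime], Q.comap (algebraMap S S') = q → Q.comap (algebraMap A' S') = maximalIdeal A' →
          FlatCA.FlatAt A' Q N') ↔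
        ∀ (Q : Ideal C') [Q.IsPrime], Q.comap (algebraMap C C') = qC → Q.comap (algebraMap A' C') = maximalIdeal A' →
          FlatCA.FlatAt A' Q M') := by
    intro A' _ _ _ _ S' N' C' M' _ _ _ _ _ _ _ _ _ _ _ _ hpS hpC _ _ _ _ _ _ _ _ _ _ _ _ f hf g hg
    haveI := hpS
    haveI := hpC
    let ψ : S' →ₐ[A] C' := Algebra.pushoutDesc S' ((IsScalarTower.toAlgHom A C C').comp (IsScalarTower.toAlgHom A S C))
      (IsScalarTower.toAlgHom A A' C') fun x y => mul_comm _ _
    letI : Algebra S' C' := ψ.toRingHom.toAlgebra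
    letI : Algebra S C' := ((algebraMap C C').comp (algebraMap S C)).toAlgebra
    haveI : IsScalarTower S C C' := .of_algebraMap_eq' rfl
    haveI : IsScalarTower S S' C' := IsScalarTower.of_algebraMap_eq (R := S) (S := S') (A := C') fun x => by
      show algebraMap C C' (algebraMap S C x) = ψ (algebraMap S S' x)
      rw [Algebra.pushoutDesc_left]; rfl
    haveI : IsScalarTower A' S' C' := IsScalarTower.of_algebraMap_eq (R := A') (S := S') (A := C') fun x => by
      show algebraMap A' C' x = ψ (algebraMap A' S' x)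
      rw [Algebra.pushoutDesc_right]; rfl
    haveI : IsScalarTower A S' C' := IsScalarTower.of_algebraMap_eq (R := A) (S := S') (A := C') fun x => (ψ.commutes x).symm
    haveI hpo : Algebra.IsPushout S C S' C' := (Algebra.IsPushout.comp_iff A A' S' (S := S) (T := C) (T' := C')).1 inferInstance
    haveI : Algebra.IsPushout S S' C C' := hpo.symm
    letI : Module S M' := Module.compHom M' (algebraMap S C)
    haveI : IsScalarTower S C M' := .of_algebraMap_smul fun _ _ => rfl
    letI : Module S' M' := Module.compHom M' (algebraMap S' C')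
    haveI : IsScalarTower S' C' M' := .of_algebraMap_smul fun _ _ => rfl
    haveI : IsScalarTower S S' M' := IsScalarTower.of_algebraMap_smul (R := S) (A := S') (M := M') fun b x => by
      show algebraMap S' C' (algebraMap S S' b) • x = algebraMap S C b • x
      rw [← IsScalarTower.algebraMap_apply S S' C', IsScalarTower.algebraMap_apply S C C', algebraMap_smul]
    haveI : IsScalarTower A' S' M' := IsScalarTower.of_algebraMap_smul (R := A') (A := S') (M := M') fun a x => by
      show algebraMap S' C' (algebraMap A' S' a) • x = a • x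
      rw [← IsScalarTower.algebraMap_apply A' S' C', algebraMap_smul]
    exact key A' S' N' C' M' f hf g hg (hf.lift ((g.restrictScalars S).comp h)) (hf.lift_comp _)
  constructor
  · intro hr A' S' N' _ _ _ _ _ _ _ _ _ _ hpS _ _ _ _ _ _ f hf
    obtain ⟨C', M', _, _, _, _, _, _, hpC, _, _, _, _, _, _, g, hg⟩ := exists_models (A := A) (S := C) M A'
    haveI := hpS
    haveI := hpC
    exact (main A' S' N' C' M' f hf g hg).trans (hr A' C' M' g hg)
  · intro hr A' C' M' _ _ _ _ _ _ _ _ _ _ hpC _ _ _ _ _ _ g hg
    obtain ⟨S', N', _, _, _, _, _, _, hpS, _, _, _, _, _, _, f, hf⟩ := exists_models (A := A) (S := S) N A'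
    haveI := hpS
    haveI := hpC
    exact (main A' S' N' C' M' f hf g hg).symm.trans (hr A' S' N' f hf)

/-- Transfer along an integral algebra with one prime over the point. -/
theorem rep_iff_of_integral {A S C : Type u} [CommRing A] [IsLocalRing A] [CommRing S] [CommRing C] [Algebra A S] [Algebra A C]
    [Algebra S C] [IsScalarTower A S C] [Algebra.IsIntegral S C] (N : Type u) [AddCommGroup N] [Module S N]
    (M : Type u) [AddCommGroup M] [Module C M] [Module S M] [IsScalarTower S C M] (h : N ≃ₗ[S] M)
    (q : Ideal S) (qC : Ideal C) [qC.IsPrime] (hq : qC.comap (algebraMap S C) = q)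
    (huniq : ∀ (Q : Ideal C) [Q.IsPrime], Q.comap (algebraMap S C) = q → Q = qC) (I : Ideal A) :
    Rep A C M qC I ↔ Rep A S N q I := by
  refine rep_iff_of_algebra N M h.toLinearMap q qC I ?_
  intro A' _ _ _ _ S' N' C' M' _ _ _ _ _ _ _ _ _ _ _ _ hpS hpC _ _ _ _ _ hpo _ _ _ _ _ _ _ _ _ _ _ _ _ _ _ _ _ _ f hf g hg θ hθ
  haveI := hpo
  haveI : IsScalarTower S C' M' := IsScalarTower.of_algebraMap_smul (R := S) (A := C') (M := M') fun a x => by
    rw [IsScalarTower.algebraMap_apply S C C', algebraMap_smul, algebraMap_smul]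
  haveI : Algebra.IsPushout S C S' C' := hpo.symm
  have hgS : IsBaseChange S' (g.restrictScalars S) := PolLawBCLib.isBaseChange_restrict g hg
  have hgh : IsBaseChange S' ((g.restrictScalars S).comp h.toLinearMap) := hgS.comp_equiv h (g.restrictScalars S)
  let e : N' ≃ₗ[S'] M' := hf.equiv.symm ≪≫ₗ hgh.equiv
  haveI : Algebra.IsPushout S C S' C' := hpo.symm
  haveI : Algebra.IsIntegral S' (S' ⊗[S] C) := inferInstance
  haveI : Algebra.IsIntegral S' C' :=
    Algebra.IsIntegral.of_surjective (Algebra.IsPushout.equiv S S' C C').toAlgHom (Algebra.IsPushout.equiv S S' C C').surjective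
  constructor
  · intro hB Q _ hQC hQm
    haveI : (Q.comap (algebraMap S' C')).IsPrime := Ideal.IsPrime.comap _
    refine (FlatAboveLib.flatAt_iff_of_integral (S := S') M' (Q.comap (algebraMap S' C'))).1
      ((FlatAboveLib.flatAt_equiv _ e).1 (hB _ ?_ ?_)) Q rfl
    · rw [Ideal.comap_comap, ← IsScalarTower.algebraMap_eq, IsScalarTower.algebraMap_eq S C C', ← Ideal.comap_comap, hQC, hq]
    · rw [Ideal.comap_comap, ← IsScalarTower.algebraMap_eq, hQm]
  · intro hC P _ hPq hPm
    refine (FlatAboveLib.flatAt_equiv _ e).2 ((FlatAboveLib.flatAt_iff_of_integral (T := C') M' P).2 fun Q _ hQP => ?_)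
    refine hC Q (huniq _ ?_) ?_
    · rw [Ideal.comap_comap, ← IsScalarTower.algebraMap_eq, IsScalarTower.algebraMap_eq S S' C', ← Ideal.comap_comap, hQP, hPq]
    · rw [IsScalarTower.algebraMap_eq A' S' C', ← Ideal.comap_comap, hQP, hPm]

/-- Transfer along a flat algebra. -/
theorem rep_iff_of_flat {A S C : Type u} [CommRing A] [IsLocalRing A] [CommRing S] [CommRing C] [Algebra A S] [Algebra A C]
    [Algebra S C] [IsScalarTower A S C] [Module.Flat S C] (N : Type u) [AddCommGroup N] [Module S N]
    (M : Type u) [AddCommGroup M] [Module C M] [Module S M] [IsScalarTower S C M] (h : N →ₗ[S] M) (hh : IsBaseChange C h)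
    (q : Ideal S) [q.IsPrime] (qC : Ideal C) [qC.IsPrime] (hq : qC.comap (algebraMap S C) = q) (I : Ideal A) :
    Rep A C M qC I ↔ Rep A S N q I := by
  refine rep_iff_of_algebra N M h q qC I ?_
  intro A' _ _ _ _ S' N' C' M' _ _ _ _ _ _ _ _ _ _ _ _ hpS hpC _ _ _ _ _ hpo _ _ _ _ _ _ _ _ _ _ _ _ _ _ _ _ _ _ f hf g hg θ hθ
  haveI := hpo
  haveI : IsScalarTower S C' M' := IsScalarTower.of_algebraMap_smul (R := S) (A := C') (M := M') fun a x => by
    rw [IsScalarTower.algebraMap_apply S C C', algebraMap_smul, algebraMap_smul]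
  haveI : Module.Flat S' C' := Module.Flat.isBaseChange S S' C C' (Algebra.IsPushout.out : IsBaseChange S' _)
  have hθ' : IsBaseChange C' θ := IsBaseChange.of_comp hf (h := θ) (by
    rw [hθ]
    exact hh.comp hg)
  constructor
  · intro hB Q _ hQC hQm
    haveI : (Q.comap (algebraMap S' C')).IsPrime := Ideal.IsPrime.comap _
    refine (FlatAboveLib.flatAt_iff hθ' _ Q rfl).2 (hB _ ?_ ?_)
    · rw [Ideal.comap_comap, ← IsScalarTower.algebraMap_eq, IsScalarTower.algebraMap_eq S C C', ← Ideal.comap_comap, hQC, hq]
    · rw [Ideal.comap_comap, ← IsScalarTower.algebraMap_eq, hQm]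
  · intro hC P _ hPq hPm
    obtain ⟨Q, hQ, hQP, hQC⟩ := PureColimLib.exists_prime_over (A' := S) (B' := C) (A := S') (B := C') P qC (hPq.trans hq.symm)
    haveI := hQ
    refine (FlatAboveLib.flatAt_iff hθ' P Q hQP.symm).1 (hC Q hQC ?_)
    rw [IsScalarTower.algebraMap_eq A' S' C', ← Ideal.comap_comap, hQP, hPm]

/-- The zero module is flat everywhere. -/
theorem parts_of_subsingleton {A S : Type u} [CommRing A] [IsLocalRing A] [CommRing S] [Algebra A S] (N : Type u)
    [AddCommGroup N] [Module S N] [Module.Finite S N] (q : Ideal S) [q.IsPrime]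
    (h : (⟨q, inferInstance⟩ : PrimeSpectrum S) ∉ Module.support S N) : Parts A S N q ⊥ := by
  rw [Module.mem_support_iff_of_finite, SetLike.not_le_iff_exists] at h
  obtain ⟨c, hc, hcq⟩ := h
  refine ⟨fun A' S' N' _ _ _ _ _ _ _ _ _ _ _ _ _ _ _ _ _ _ _ _ => Ideal.map_bot, ?_⟩
  intro _ S₀ N₀ _ _ _ _ _ _ _ _ _ _ _ _ _ f hf Q _ hQ _
  unfold FlatCA.FlatAt
  haveI : Subsingleton (LocalizedModule Q.primeCompl N₀) := by
    rw [LocalizedModule.subsingleton_iff]
    intro m
    refine ⟨algebraMap S S₀ c, fun hm => hcq (hQ ▸ hm), ?_⟩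
    rw [algebraMap_smul]
    obtain ⟨z, rfl⟩ := hf.equiv.surjective m
    induction z with
    | zero => simp
    | add x y hx hy => rw [map_add, smul_add, hx, hy, add_zero]
    | tmul b x => rw [hf.equiv_tmul, smul_comm, ← map_smul, Module.mem_annihilator.1 hc x, map_zero, smul_zero]
  infer_instance

/-- A step of a dévissage passes to the module. -/
theorem exists_parts_of_devStep {A S N : Type u} [CommRing A] [IsLocalRing A] [CommRing S] [Algebra A S] [AddCommGroup N]
    [Module S N] {q : Ideal S} (E : DevLib.DevStep A (maximalIdeal A) S N q)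
    (h : ∃ I₁, Parts A E.B (E.M ⧸ LinearMap.range E.α) E.qB I₁) : ∃ I, Parts A S N q I := by
  haveI : Algebra.Smooth A E.B := DevissLib.smooth_of_smoothRelDim E.relDim
  haveI := E.finiteBA
  haveI := E.finiteM
  haveI : Module.Finite E.B E.M := Module.Finite.trans E.A E.M
  obtain ⟨I, hI⟩ := step E.geomIrred E.qB E.M E.α E.fibreIso h
  haveI : Algebra.IsIntegral E.B E.A := Algebra.IsIntegral.of_finite _ _
  have h1 : Rep A E.A E.M E.qA I := (rep_iff_of_integral E.M E.M (LinearEquiv.refl E.B E.M) E.qB E.qA
    (E.overA.over.symm) (fun Q _ hQ => E.uniq Q ⟨hQ.symm⟩) I).2 hI.rep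
  haveI : Module.Finite S E.A := Module.Finite.of_surjective (Algebra.linearMap S E.A) E.surjSA
  haveI : Algebra.IsIntegral S E.A := Algebra.IsIntegral.of_finite _ _
  exact ⟨I, ((rep_iff_of_integral N E.M E.isoN q E.qA E.q0 (fun Q _ hQ =>
    Ideal.comap_injective_of_surjective _ E.surjSA (hQ.trans E.q0.symm)) I).1 h1).parts⟩

/-- Along a dévissage at the closed point the ideal exists. -/
theorem exists_parts_of_dev {A S N : Type u} [CommRing A] [IsLocalRing A] [CommRing S] [Algebra A S] [AddCommGroup N]
    [Module S N] {q : Ideal S} (h : DevLib.Dev A (maximalIdeal A) S N q) : ∃ I, Parts A S N q I := by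
  induction h with
  | last E hE =>
    refine exists_parts_of_devStep E ⟨⊥, ?_⟩
    haveI : Subsingleton (E.M ⧸ LinearMap.range E.α) :=
      Submodule.Quotient.subsingleton_iff.2 (LinearMap.range_eq_top.2 hE)
    haveI := E.finiteBA
    haveI := E.finiteM
    haveI : Module.Finite E.B E.M := Module.Finite.trans E.A E.M
    exact parts_of_subsingleton _ _ fun hs => by
      haveI := Module.mem_support_iff.1 hs
      exact false_of_nontrivial_of_subsingleton (LocalizedModule E.qB.primeCompl (E.M ⧸ LinearMap.range E.α))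
  | cons E _ ih => exact exists_parts_of_devStep E ih

end Groth.Agent.FlatIdealLib
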