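import Groth.Agent.FlatStage.AlgGlobal
import Groth.Agent.FlatAboveLib.Basic
import Groth.Agent.EssFPLib.Model

/-!
# Descending flatness along a closed subset of an essentially finitely presented algebra to a stage
-/

set_option autoImplicit false
set_option linter.style.haveILetI false
set_option backward.isDefEq.respectTransparency false
set_option backward.isDefEq.respectTransparency.types false
set_option maxHeartbeats 2000000

universe u

open TensorProduct

noncomputable section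

namespace Groth.Agent.FlatIdealLib

attribute [local instance] Algebra.TensorProduct.rightAlgebra

/-- The map from the base change of a model to a base change of the algebra. -/
def modelMap {R : Type u} [CommRing R] (S₀ S : Type u) [CommRing S₀] [CommRing S] [Algebra R S₀] [Algebra R S] [Algebra S₀ S]
    [IsScalarTower R S₀ S] (G Si : Type u) [CommRing G] [CommRing Si] [Algebra R G] [Algebra S Si] [Algebra G Si] [Algebra R Si]
    [IsScalarTower R S Si] [IsScalarTower R G Si] : G ⊗[R] S₀ →ₐ[R] Si :=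
  Algebra.TensorProduct.lift (IsScalarTower.toAlgHom R G Si)
    ((IsScalarTower.toAlgHom R S Si).comp (IsScalarTower.toAlgHom R S₀ S)) fun _ _ => Commute.all _ _

/-- The flat locus of the base change of a model computes flatness over a localized algebra. -/
theorem locus_model {R S₀ S : Type u} [CommRing R] [CommRing S₀] [CommRing S] [Algebra R S₀] [Algebra R S] [Algebra S₀ S]
    [IsScalarTower R S₀ S] (T : Submonoid S₀) [IsLocalization T S]
    {M₀ M : Type u} [AddCommGroup M₀] [Module S₀ M₀] [Module R M₀] [IsScalarTower R S₀ M₀]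
    [AddCommGroup M] [Module S M] [Module S₀ M] [IsScalarTower S₀ S M] (g₀ : M₀ →ₗ[S₀] M) [IsLocalizedModule T g₀]
    (G Si Mi : Type u) [CommRing G] [CommRing Si] [Algebra R G] [Algebra S Si] [Algebra G Si] [Algebra R Si]
    [IsScalarTower R S Si] [IsScalarTower R G Si] [Algebra.IsPushout R S G Si]
    [AddCommGroup Mi] [Module Si Mi] [Module G Mi] [IsScalarTower G Si Mi] [Module S Mi] [IsScalarTower S Si Mi]
    (fi : M →ₗ[S] Mi) (hfi : IsBaseChange Si fi) :
    (∀ q : PrimeSpectrum Si, PrimeSpectrum.comap (modelMap (R := R) S₀ S G Si).toRingHom q ∈ FlatStage.locus (A := R) S₀ M₀ G ↔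
      FlatCA.FlatAt G q.asIdeal Mi) ∧
    ∀ P : PrimeSpectrum (G ⊗[R] S₀), ((∃ q : PrimeSpectrum Si, PrimeSpectrum.comap (modelMap (R := R) S₀ S G Si).toRingHom q = P) ↔
      ∀ t ∈ T, algebraMap S₀ (G ⊗[R] S₀) t ∉ P.asIdeal) := by
  let B := G ⊗[R] S₀
  let β := modelMap (R := R) S₀ S G Si
  letI : Algebra B Si := β.toRingHom.toAlgebra
  letI : Algebra S₀ Si := ((algebraMap S Si).comp (algebraMap S₀ S)).toAlgebra
  haveI : IsScalarTower S₀ S Si := .of_algebraMap_eq' rfl
  haveI : IsScalarTower R S₀ Si := IsScalarTower.of_algebraMap_eq (R := R) (S := S₀) (A := Si) fun a => by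
    rw [IsScalarTower.algebraMap_apply R S Si, IsScalarTower.algebraMap_apply R S₀ S]
    rfl
  haveI : IsScalarTower S₀ B Si := IsScalarTower.of_algebraMap_eq (R := S₀) (S := B) (A := Si) fun x => by
    show _ = β ((1 : G) ⊗ₜ[R] x)
    simp [β, modelMap]
    rfl
  haveI : IsScalarTower G B Si := IsScalarTower.of_algebraMap_eq (R := G) (S := B) (A := Si) fun x => by
    show _ = β (x ⊗ₜ[R] (1 : S₀))
    simp [β, modelMap]
  haveI : IsScalarTower R B Si := IsScalarTower.of_algebraMap_eq (R := R) (S := B) (A := Si) fun a => (β.commutes a).symm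
  haveI : Algebra.IsPushout R G S₀ B := inferInstance
  haveI : Algebra.IsPushout R S₀ G B := Algebra.IsPushout.symm inferInstance
  haveI hpo : Algebra.IsPushout S₀ S B Si :=
    (Algebra.IsPushout.comp_iff (R := R) (S := S₀) (R' := G) (S' := B) (T := S) (T' := Si)).1 inferInstance
  haveI : IsLocalization (Algebra.algebraMapSubmonoid B T) Si :=
    (Algebra.isLocalization_iff_isPushout T S).2 (Algebra.IsPushout.symm hpo)
  refine ⟨fun q => ?_, fun P => ⟨?_, fun hP => ?_⟩⟩
  · letI : Module B Mi := Module.compHom Mi (algebraMap B Si)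
    haveI : IsScalarTower B Si Mi := .of_algebraMap_smul fun _ _ => rfl
    letI : Module S₀ Mi := Module.compHom Mi (algebraMap S₀ Si)
    haveI : IsScalarTower S₀ Si Mi := .of_algebraMap_smul fun _ _ => rfl
    haveI : IsScalarTower S₀ S Mi := IsScalarTower.of_algebraMap_smul (R := S₀) (A := S) (M := Mi) fun x m => by
      rw [← algebraMap_smul Si (algebraMap S₀ S x) m, ← IsScalarTower.algebraMap_apply S₀ S Si, algebraMap_smul]
    haveI : IsScalarTower S₀ B Mi := IsScalarTower.of_algebraMap_smul (R := S₀) (A := B) (M := Mi) fun x m => by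
      rw [← algebraMap_smul Si (algebraMap S₀ B x) m, ← IsScalarTower.algebraMap_apply S₀ B Si, algebraMap_smul]
    haveI : IsScalarTower G B Mi := IsScalarTower.of_algebraMap_smul (R := G) (A := B) (M := Mi) fun x m => by
      rw [← algebraMap_smul Si (algebraMap G B x) m, ← IsScalarTower.algebraMap_apply G B Si, algebraMap_smul]
    have hcomp : IsBaseChange Si ((fi.restrictScalars S₀).comp g₀) :=
      (IsLocalizedModule.isBaseChange T S g₀).comp hfi
    have hB : IsBaseChange B (TensorProduct.mk S₀ B M₀ 1) := TensorProduct.isBaseChange S₀ M₀ B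
    let θ : B ⊗[S₀] M₀ →ₗ[B] Mi := hB.lift ((fi.restrictScalars S₀).comp g₀)
    have hθ : IsBaseChange Si θ := IsBaseChange.of_comp hB (h := θ) (by
      rw [show (θ.restrictScalars S₀).comp (TensorProduct.mk S₀ B M₀ 1) = (fi.restrictScalars S₀).comp g₀ from
        hB.lift_comp _]
      exact hcomp)
    haveI : Module.Flat B Si := IsLocalization.flat Si (Algebra.algebraMapSubmonoid B T)
    exact (FlatAboveLib.flatAt_iff (A' := G) hθ (PrimeSpectrum.comap β.toRingHom q).asIdeal q.asIdeal rfl).symm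
  · rintro ⟨q, rfl⟩ t ht hmem
    refine q.2.ne_top (Ideal.eq_top_of_isUnit_mem _ hmem ?_)
    exact IsLocalization.map_units (M := Algebra.algebraMapSubmonoid B T) Si ⟨_, Algebra.mem_algebraMapSubmonoid_of_mem ⟨t, ht⟩⟩
  · have hdis : Disjoint ((Algebra.algebraMapSubmonoid B T : Submonoid B) : Set B) (P.asIdeal : Set B) := by
      rw [Set.disjoint_left]
      rintro _ ⟨t, ht, rfl⟩
      exact hP t ht
    haveI := IsLocalization.isPrime_of_isPrime_disjoint (Algebra.algebraMapSubmonoid B T) Si P.asIdeal P.2 hdis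
    exact ⟨⟨P.asIdeal.map (algebraMap B Si), inferInstance⟩,
      PrimeSpectrum.ext (IsLocalization.comap_map_of_isPrime_disjoint (Algebra.algebraMapSubmonoid B T) Si P.2 hdis)⟩

variable {R S₀ : Type u} [CommRing R] [CommRing S₀] [Algebra R S₀]
  {M₀ : Type u} [AddCommGroup M₀] [Module S₀ M₀] [Module R M₀] [IsScalarTower R S₀ M₀]
  {ι : Type u} [Preorder ι] {G : ι → Type u} [∀ i, CommRing (G i)] [∀ i, Algebra R (G i)]
  {g : ∀ i j, i ≤ j → G i →ₐ[R] G j}
  {R' : Type u} [CommRing R'] [Algebra R R'] [∀ i, Algebra (G i) R'] [∀ i, IsScalarTower R (G i) R']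

/-- The primes of interest over one base ring. -/
def zone (T : Submonoid S₀) (J₀ : Ideal S₀) {G : Type u} [CommRing G] [Algebra R G] (Il : Ideal G) :
    Set (PrimeSpectrum (G ⊗[R] S₀)) :=
  {P | Il.map (algebraMap G (G ⊗[R] S₀)) ⊔ J₀.map (algebraMap S₀ (G ⊗[R] S₀)) ≤ P.asIdeal ∧
    ∀ t ∈ T, algebraMap S₀ (G ⊗[R] S₀) t ∉ P.asIdeal}

/-- A flat locus containing the zone over the limit contains it at a stage. -/
theorem exists_zone_stage [Algebra.FinitePresentation R S₀] [Module.FinitePresentation S₀ M₀]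
    (hcolim : FlatCA.IsDirectedColimitRing G (fun i j h => (g i j h).toRingHom) R')
    (Il : ∀ i, Ideal (G i)) (hIl : ∀ i j (h : i ≤ j), (Il i).map (g i j h).toRingHom ≤ Il j)
    (T : Submonoid S₀) (J₀ : Ideal S₀)
    (hZ : zone (R := R) T J₀ (⨆ i, (Il i).map (algebraMap (G i) R')) ⊆ FlatStage.locus (A := R) S₀ M₀ R') :
    ∃ k, zone (R := R) T J₀ (Il k) ⊆ FlatStage.locus (A := R) S₀ M₀ (G k) := by
  classical
  haveI := hcolim.1
  haveI := hcolim.2.1
  let Sys := FlatStage.sysOfDirected hcolim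
  let ρ : ∀ k, G k →ₐ[R] R' := fun k => IsScalarTower.toAlgHom R (G k) R'
  let β : ∀ k, G k ⊗[R] S₀ →ₐ[R] R' ⊗[R] S₀ := fun k => Algebra.TensorProduct.map (ρ k) (AlgHom.id R S₀)
  let τ : ∀ {i k}, i ≤ k → G i ⊗[R] S₀ →ₐ[R] G k ⊗[R] S₀ := fun h =>
    Algebra.TensorProduct.map (g _ _ h) (AlgHom.id R S₀)
  have hβτ : ∀ {i k} (h : i ≤ k) (z : G i ⊗[R] S₀), β k (τ h z) = β i z := fun h z => Sys.rho_tau ⟨⟨h⟩⟩ z
  have hττ : ∀ {i j k} (h : i ≤ j) (h' : j ≤ k) (z : G i ⊗[R] S₀), τ h' (τ h z) = τ (h.trans h') z := by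
    intro i j k h h' z
    rw [← AlgHom.comp_apply]
    refine AlgHom.congr_fun (Algebra.TensorProduct.ext' fun r b => ?_) z
    simp only [τ, AlgHom.comp_apply, Algebra.TensorProduct.map_tmul, AlgHom.id_apply]
    rw [show g j k h' (g i j h r) = g i k (h.trans h') r from RingHom.congr_fun (hcolim.2.2.2.1 i j k h h') r]
  let I' : Ideal R' := ⨆ i, (Il i).map (algebraMap (G i) R')
  let Linf : Ideal (R' ⊗[R] S₀) := I'.map (algebraMap R' _) ⊔ J₀.map (algebraMap S₀ _)
  -- the zone over the limit is quasi-compact and covered by the loci of the stages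
  let T' := Algebra.algebraMapSubmonoid (R' ⊗[R] S₀) T
  have hcpt : IsCompact (zone (R := R) T J₀ I') := by
    have h1 : zone (R := R) T J₀ I' = Set.range (PrimeSpectrum.comap (algebraMap (R' ⊗[R] S₀) (Localization T'))) ∩
        PrimeSpectrum.zeroLocus (Linf : Set (R' ⊗[R] S₀)) := by
      rw [PrimeSpectrum.localization_comap_range (Localization T') T']
      ext P
      simp only [zone, Set.mem_setOf_eq, Set.mem_inter_iff, PrimeSpectrum.mem_zeroLocus, SetLike.coe_subset_coe, Linf]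
      constructor
      · rintro ⟨h1, h2⟩
        refine ⟨Set.disjoint_left.2 ?_, h1⟩
        rintro _ ⟨t, ht, rfl⟩
        exact h2 t ht
      · rintro ⟨h1, h2⟩
        exact ⟨h2, fun t ht => Set.disjoint_left.1 h1 ⟨t, ht, rfl⟩⟩
    rw [h1]
    exact (isCompact_range (PrimeSpectrum.continuous_comap _)).inter_right (PrimeSpectrum.isClosed_zeroLocus _)
  have hpt : ∀ q : zone (R := R) T J₀ I', ∃ k, PrimeSpectrum.comap (β k).toRingHom q.1 ∈
      FlatStage.locus (A := R) S₀ M₀ (G k) := by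
    intro q
    haveI : Module.Flat R' (LocalizedModule q.1.asIdeal.primeCompl ((R' ⊗[R] S₀) ⊗[S₀] M₀)) := hZ q.2
    obtain ⟨k, -, hk⟩ := FlatStage.exists_stage (A := R) (B := S₀) (M := M₀) Sys (Classical.arbitrary ι) (R' ⊗[R] S₀)
      ((R' ⊗[R] S₀) ⊗[S₀] M₀) (TensorProduct.mk S₀ (R' ⊗[R] S₀) M₀ 1) (TensorProduct.isBaseChange S₀ M₀ _) q.1
    dsimp only [Sys, FlatStage.sysOfDirected] at k hk
    refine ⟨k, hk (G k ⊗[R] S₀) ((G k ⊗[R] S₀) ⊗[S₀] M₀) (TensorProduct.mk S₀ _ M₀ 1)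
      (TensorProduct.isBaseChange S₀ M₀ _) (β k).toRingHom (fun r => ?_) (fun b => ?_)⟩
    · simp [β, ρ, Algebra.TensorProduct.algebraMap_apply]
    · simp [β, RingHom.algebraMap_toAlgebra]
  choose idx hidx using hpt
  obtain ⟨t, ht⟩ := hcpt.elim_finite_subcover
    (fun q : zone (R := R) T J₀ I' => PrimeSpectrum.comap (β (idx q)).toRingHom ⁻¹' FlatStage.locus (A := R) S₀ M₀ (G (idx q)))
    (fun q => (FlatStage.isOpen_locus _).preimage (PrimeSpectrum.continuous_comap _))
    (fun q hq => Set.mem_iUnion.2 ⟨⟨q, hq⟩, hidx ⟨q, hq⟩⟩)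
  obtain ⟨k, hk⟩ := Finset.exists_le (t.image idx)
  obtain ⟨C, hC⟩ := (PrimeSpectrum.isClosed_iff_zeroLocus_ideal _).mp
    (FlatStage.isOpen_locus (A := R) (B := S₀) (M := M₀) (G k)).isClosed_compl
  -- the ideal of the limit meets the multiplicative set
  obtain ⟨z, hzT, hzL⟩ : ∃ z ∈ T', z ∈ Linf ⊔ C.map (β k).toRingHom := by
    by_contra hne
    push Not at hne
    obtain ⟨P, hP, hle, hdis⟩ := Ideal.exists_le_prime_disjoint (Linf ⊔ C.map (β k).toRingHom) T'
      (Set.disjoint_left.2 fun x hx hxT => hne x hxT hx)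
    have hPz : (⟨P, hP⟩ : PrimeSpectrum _) ∈ zone (R := R) T J₀ I' :=
      ⟨le_sup_left.trans hle, fun s hs hsP => Set.disjoint_left.1 hdis hsP ⟨s, hs, rfl⟩⟩
    obtain ⟨i, hi, hiP⟩ : ∃ i ∈ t, PrimeSpectrum.comap (β (idx i)).toRingHom ⟨P, hP⟩ ∈
        FlatStage.locus (A := R) S₀ M₀ (G (idx i)) := by
      simpa using ht hPz
    have hik : idx i ≤ k := hk _ (Finset.mem_image_of_mem _ hi)
    have h2 : PrimeSpectrum.comap (β k).toRingHom ⟨P, hP⟩ ∈ FlatStage.locus (A := R) S₀ M₀ (G k) := by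
      refine FlatStage.comap_locus_le (g _ _ hik) ?_
      rw [Set.mem_preimage, ← PrimeSpectrum.comap_comp_apply]
      rwa [show (β k).toRingHom.comp (Algebra.TensorProduct.map (g _ _ hik) (AlgHom.id R S₀)).toRingHom =
        (β (idx i)).toRingHom from RingHom.ext fun z => hβτ hik z]
    have h3 : PrimeSpectrum.comap (β k).toRingHom ⟨P, hP⟩ ∈ PrimeSpectrum.zeroLocus (C : Set (G k ⊗[R] S₀)) :=
      fun x hx => (le_sup_right.trans hle) (Ideal.mem_map_of_mem _ hx)
    rw [← hC] at h3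
    exact h3 h2
  -- the ideals of the stages
  let L : ∀ l, k ≤ l → Ideal (G l ⊗[R] S₀) := fun l h =>
    (Il l).map (algebraMap (G l) _) ⊔ J₀.map (algebraMap S₀ _) ⊔ C.map (τ h).toRingHom
  have hmove : ∀ {l m} (h : k ≤ l) (h' : l ≤ m) (y : G l ⊗[R] S₀), y ∈ L l h → τ h' y ∈ L m (h.trans h') := by
    intro l m h h' y hy
    refine (?_ : L l h ≤ (L m (h.trans h')).comap (τ h').toRingHom) hy
    refine sup_le (sup_le ?_ ?_) ?_ <;> rw [Ideal.map_le_iff_le_comap, Ideal.comap_comap] <;> intro x hx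
    · refine Ideal.mem_sup_left (Ideal.mem_sup_left ?_)
      show τ h' (x ⊗ₜ[R] (1 : S₀)) ∈ _
      rw [show τ h' (x ⊗ₜ[R] (1 : S₀)) = algebraMap (G m) (G m ⊗[R] S₀) (g l m h' x) by
        simp [τ, Algebra.TensorProduct.algebraMap_apply]]
      exact Ideal.mem_map_of_mem _ (hIl l m h' (Ideal.mem_map_of_mem _ hx))
    · refine Ideal.mem_sup_left (Ideal.mem_sup_right ?_)
      show τ h' ((1 : G l) ⊗ₜ[R] x) ∈ _
      rw [show τ h' ((1 : G l) ⊗ₜ[R] x) = algebraMap S₀ (G m ⊗[R] S₀) x by simp [τ, RingHom.algebraMap_toAlgebra]]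
      exact Ideal.mem_map_of_mem _ hx
    · refine Ideal.mem_sup_right ?_
      show τ h' (τ h x) ∈ _
      rw [hττ h h' x]
      exact Ideal.mem_map_of_mem _ hx
  let U : Ideal (R' ⊗[R] S₀) :=
    { carrier := {z | ∀ l₀, k ≤ l₀ → ∃ (l : ι) (h : k ≤ l), l₀ ≤ l ∧ ∃ y ∈ L l h, β l y = z}
      zero_mem' := fun l₀ h₀ => ⟨l₀, h₀, le_rfl, 0, zero_mem _, map_zero _⟩
      add_mem' := by
        intro a b ha hb l₀ h₀
        obtain ⟨l, h, hl, y, hy, rfl⟩ := ha l₀ h₀
        obtain ⟨m, h', hm, y', hy', rfl⟩ := hb l h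
        exact ⟨m, h', hl.trans hm, τ hm y + y', add_mem (hmove h hm y hy) hy', by rw [map_add, hβτ]⟩
      smul_mem' := by
        intro c a ha l₀ h₀
        obtain ⟨l, h, hl, y, hy, rfl⟩ := ha l₀ h₀
        obtain ⟨m, f, d, hd⟩ := Sys.exists_lift (M := S₀) l c
        dsimp only [Sys, FlatStage.sysOfDirected] at m f d hd
        have hlm : l ≤ m := f.down.down
        refine ⟨m, h.trans hlm, hl.trans hlm, d * τ hlm y, Ideal.mul_mem_left _ _ (hmove h hlm y hy), ?_⟩
        rw [map_mul, hβτ, smul_eq_mul]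
        exact congrArg (· * _) hd }
  have hU : Linf ⊔ C.map (β k).toRingHom ≤ U := by
    refine sup_le (sup_le ?_ ?_) ?_
    · rw [Ideal.map_le_iff_le_comap]
      refine iSup_le fun i => ?_
      rw [Ideal.map_le_iff_le_comap, Ideal.comap_comap]
      intro x hx l₀ h₀
      obtain ⟨l, hl, hil⟩ := hcolim.1.directed l₀ i
      refine ⟨l, h₀.trans hl, hl, algebraMap (G l) _ (g i l hil x),
        Ideal.mem_sup_left (Ideal.mem_sup_left (Ideal.mem_map_of_mem _ (hIl i l hil (Ideal.mem_map_of_mem _ hx)))), ?_⟩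
      show β l ((g i l hil x) ⊗ₜ[R] (1 : S₀)) = algebraMap R' (R' ⊗[R] S₀) (algebraMap (G i) R' x)
      simp [β, ρ, Algebra.TensorProduct.algebraMap_apply,
        show algebraMap (G l) R' (g i l hil x) = algebraMap (G i) R' x from RingHom.congr_fun (hcolim.2.2.2.2.1 i l hil) x]
    · rw [Ideal.map_le_iff_le_comap]
      intro x hx l₀ h₀
      exact ⟨l₀, h₀, le_rfl, algebraMap S₀ _ x, Ideal.mem_sup_left (Ideal.mem_sup_right (Ideal.mem_map_of_mem _ hx)),
        by simp [β, RingHom.algebraMap_toAlgebra]⟩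
    · rw [Ideal.map_le_iff_le_comap]
      intro x hx l₀ h₀
      exact ⟨l₀, h₀, le_rfl, τ h₀ x, Ideal.mem_sup_right (Ideal.mem_map_of_mem _ hx), hβτ h₀ x⟩
  obtain ⟨s, hs, rfl⟩ := hzT
  obtain ⟨l, hkl, -, y, hy, hy1⟩ := hU hzL k le_rfl
  obtain ⟨m, f, hf⟩ := Sys.exists_zero (M := S₀) l (y - algebraMap S₀ (G l ⊗[R] S₀) s) (by
    show β l (y - algebraMap S₀ (G l ⊗[R] S₀) s) = 0
    rw [map_sub, hy1, sub_eq_zero]
    simp [β, RingHom.algebraMap_toAlgebra])
  have hlm : l ≤ m := f.down.down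
  refine ⟨m, fun P hP => ?_⟩
  by_contra hPm
  have hPk : PrimeSpectrum.comap (τ (hkl.trans hlm)).toRingHom P ∈ PrimeSpectrum.zeroLocus (C : Set (G k ⊗[R] S₀)) := by
    rw [← hC]
    exact fun hmem => hPm (FlatStage.comap_locus_le (g _ _ (hkl.trans hlm)) hmem)
  have hLP : L m (hkl.trans hlm) ≤ P.asIdeal :=
    sup_le hP.1 (Ideal.map_le_iff_le_comap.2 hPk)
  refine hP.2 s hs (hLP ?_)
  have h1 : τ hlm y = algebraMap S₀ _ s := by
    rw [← sub_eq_zero, show algebraMap S₀ (G m ⊗[R] S₀) s = τ hlm (algebraMap S₀ _ s) by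
      simp [τ, RingHom.algebraMap_toAlgebra], ← map_sub]
    exact hf
  rw [← h1]
  exact hmove hkl hlm y hy

end Groth.Agent.FlatIdealLib
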