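import Groth.Agent.FlatIdealLib.Basic
import Groth.Agent.DevissLib.Step
import Groth.Agent.DevLib.Ops
import Groth.Agent.S1228
import Groth.Agent.FibAssLib.Detect
import Groth.Agent.FibDepthLib.FourTerm
import Mathlib.LinearAlgebra.TensorProduct.Quotient

/-!
# One step of the recursion for the ideal of the flat locus
-/

set_option autoImplicit false
set_option linter.style.haveILetI false
set_option backward.isDefEq.respectTransparency false
set_option backward.isDefEq.respectTransparency.types false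
set_option maxHeartbeats 2000000
set_option synthInstance.maxHeartbeats 100000

universe u

open TensorProduct IsLocalRing

noncomputable section

namespace Groth.Agent.FlatIdealLib

/-- In a model of the base change along a quotient, the elements mapping to zero are those in `J • M`. -/
theorem model_eq_zero_iff {A B : Type u} [CommRing A] [CommRing B] [Algebra A B] {M : Type u} [AddCommGroup M] [Module B M]
    [Module A M] [IsScalarTower A B M] {J : Ideal A}
    {B₀ M₀ : Type u} [CommRing B₀] [Algebra B B₀] [Algebra (A ⧸ J) B₀] [Algebra A B₀] [IsScalarTower A B B₀]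
    [IsScalarTower A (A ⧸ J) B₀] [Algebra.IsPushout A B (A ⧸ J) B₀]
    [AddCommGroup M₀] [Module B₀ M₀] [Module B M₀] [IsScalarTower B B₀ M₀]
    (g : M →ₗ[B] M₀) (hg : IsBaseChange B₀ g) :
    Function.Surjective g ∧ ∀ x, g x = 0 ↔ x ∈ J.map (algebraMap A B) • (⊤ : Submodule B M) := by
  haveI : Algebra.IsPushout A (A ⧸ J) B B₀ := Algebra.IsPushout.symm inferInstance
  have hker : ∀ b : B, algebraMap B B₀ b = 0 ↔ b ∈ J.map (algebraMap A B) := fun b => by
    rw [← map_eq_zero_iff _ (Algebra.IsPushout.equiv A (A ⧸ J) B B₀).symm.injective, Algebra.IsPushout.equiv_symm_algebraMap_right,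
      ← (TensorProduct.quotTensorEquivQuotSMul B J).map_eq_zero_iff,
      show (1 : A ⧸ J) = Ideal.Quotient.mk J 1 from rfl, TensorProduct.quotTensorEquivQuotSMul_mk_tmul, one_smul,
      Submodule.Quotient.mk_eq_zero, Ideal.smul_top_eq_map]
    rfl
  have hsurj : Function.Surjective (algebraMap B B₀) := fun c => by
    obtain ⟨z, rfl⟩ := (Algebra.IsPushout.equiv A (A ⧸ J) B B₀).surjective c
    obtain ⟨b, rfl⟩ := TensorProduct.mk_surjective A B (A ⧸ J) Ideal.Quotient.mk_surjective z
    exact ⟨b, by simp [Algebra.IsPushout.equiv_tmul]⟩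
  let L := J.map (algebraMap A B)
  let e : (B ⧸ L) ≃ₗ[B] B₀ :=
    (Submodule.quotEquivOfEq L (LinearMap.ker (Algebra.linearMap B B₀)) (Submodule.ext fun b => (hker b).symm)).trans
      ((Algebra.linearMap B B₀).quotKerEquivOfSurjective hsurj)
  constructor
  · intro y
    obtain ⟨z, rfl⟩ := hg.equiv.surjective y
    obtain ⟨x, rfl⟩ := TensorProduct.mk_surjective B M B₀ hsurj z
    exact ⟨x, by simp [hg.equiv_tmul]⟩
  · intro x
    rw [← hg.equiv.symm.map_eq_zero_iff, hg.equiv_symm_apply, ← (LinearEquiv.rTensor M e).symm.map_eq_zero_iff]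
    have h1 : (LinearEquiv.rTensor M e).symm ((1 : B₀) ⊗ₜ[B] x) = (Ideal.Quotient.mk L 1) ⊗ₜ[B] x := by
      rw [LinearEquiv.symm_apply_eq, LinearEquiv.rTensor_tmul]
      congr 1
      exact (map_one (algebraMap B B₀)).symm
    rw [h1, ← (TensorProduct.quotTensorEquivQuotSMul M L).map_eq_zero_iff, TensorProduct.quotTensorEquivQuotSMul_mk_tmul,
      one_smul, Submodule.Quotient.mk_eq_zero]

/-- Smoothness and irreducibility of the fibres pass to a model of the base change. -/
theorem smooth_geomIrred_model {A B A' B' : Type u} [CommRing A] [CommRing B] [CommRing A'] [CommRing B'] [Algebra A B]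
    [Algebra A A'] [Algebra B B'] [Algebra A' B'] [Algebra A B'] [IsScalarTower A B B'] [IsScalarTower A A' B']
    [Algebra.IsPushout A B A' B'] [Algebra.Smooth A B] (hirr : FlatCA.GeomIrredFibres A B) :
    Algebra.Smooth A' B' ∧ FlatCA.GeomIrredFibres A' B' := by
  haveI : Algebra.IsPushout A A' B B' := Algebra.IsPushout.symm inferInstance
  let e : A' ⊗[A] B ≃ₐ[A'] B' := Algebra.IsPushout.equiv A A' B B'
  refine ⟨Algebra.Smooth.of_equiv e, DevLib.geomIrredFibres_iff_tensor.2 fun K _ _ => ?_⟩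
  letI : Algebra A K := ((algebraMap A' K).comp (algebraMap A A')).toAlgebra
  haveI : IsScalarTower A A' K := .of_algebraMap_eq fun _ => rfl
  exact (PrimeSpectrum.homeomorphOfRingEquiv
    ((Algebra.TensorProduct.congr AlgEquiv.refl e.symm).trans
      (Algebra.TensorProduct.cancelBaseChange A A' K K B)).toRingEquiv).irreducibleSpace_iff.2
    (DevLib.geomIrredFibres_iff_tensor.1 hirr K)

/-- The base change of a map from a free module. -/
theorem exists_model_map {B B' M M' : Type u} [CommRing B] [CommRing B'] [Algebra B B'] [AddCommGroup M] [Module B M]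
    [AddCommGroup M'] [Module B' M'] [Module B M'] [IsScalarTower B B' M'] {r : ℕ} (α : (Fin r → B) →ₗ[B] M)
    (g : M →ₗ[B] M') (hg : IsBaseChange B' g) :
    ∃ α' : (Fin r → B') →ₗ[B'] M', (∀ v, α' (algebraMap B B' ∘ v) = g (α v)) ∧
      LinearMap.range α' = Submodule.span B' (g '' (LinearMap.range α : Set M)) ∧
      ∀ (K' : Type u) [CommRing K'] [Algebra B K'] [Algebra B' K'] [IsScalarTower B B' K'],
        Function.Bijective (α.baseChange K') → Function.Bijective (α'.baseChange K') := by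
  classical
  let α' : (Fin r → B') →ₗ[B'] M' := Fintype.linearCombination B' fun i => g (α (Pi.single i 1))
  have hα' : ∀ v, α' (algebraMap B B' ∘ v) = g (α v) := fun v => by
    rw [Fintype.linearCombination_apply]
    conv_rhs => rw [pi_eq_sum_univ' v, map_sum, map_sum]
    exact Finset.sum_congr rfl fun i _ => by simp [algebraMap_smul]
  refine ⟨α', hα', ?_, fun K' _ _ _ _ h => ?_⟩
  · refine le_antisymm ?_ (Submodule.span_le.2 ?_)
    · rw [Fintype.range_linearCombination, Submodule.span_le]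
      rintro _ ⟨i, rfl⟩
      exact Submodule.subset_span ⟨_, ⟨_, rfl⟩, rfl⟩
    · rintro _ ⟨_, ⟨v, rfl⟩, rfl⟩
      exact ⟨_, hα' v⟩
  · let eF : (Fin r → B') ≃ₗ[B'] B' ⊗[B] (Fin r → B) := (TensorProduct.piScalarRight B B' B' (Fin r)).symm
    have he : α' = hg.equiv.toLinearMap ∘ₗ α.baseChange B' ∘ₗ eF.toLinearMap := (Pi.basisFun B' (Fin r)).ext fun i => by
      rw [Pi.basisFun_apply, Fintype.linearCombination_apply_single, one_smul]
      simp [eF, hg.equiv_tmul]
    rw [he]
    exact DevLib.bijective_baseChange_equiv (DevLib.bijective_baseChange_comp h) eF hg.equiv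

/-- One step of the recursion. -/
theorem step {A B : Type u} [CommRing A] [IsLocalRing A] [CommRing B] [Algebra A B] [Algebra.Smooth A B]
    (hirr : FlatCA.GeomIrredFibres A B) [hPp : ((maximalIdeal A).map (algebraMap A B)).IsPrime]
    (qB : Ideal B) [qB.IsPrime] [qB.LiesOver (maximalIdeal A)]
    (M : Type u) [AddCommGroup M] [Module B M] [Module.Finite B M] {r : ℕ} (α : (Fin r → B) →ₗ[B] M)
    (hα : Function.Bijective (α.baseChange ((maximalIdeal A).map (algebraMap A B)).ResidueField))
    (hnext : ∃ I₁ : Ideal A, Parts A B (M ⧸ LinearMap.range α) qB I₁) :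
    ∃ I : Ideal A, Parts A B M qB I := by
  classical
  obtain ⟨I₁, hI₁⟩ := hnext
  have hrep₁ := hI₁.rep
  letI : Module A M := Module.compHom M (algebraMap A B)
  haveI : IsScalarTower A B M := .of_algebraMap_smul fun _ _ => rfl
  haveI := DevissLib.projective_of_smooth hirr
  obtain ⟨π, s, hπs⟩ := S1228.exists_coord A B
  let J₁ : Submodule B M := I₁.map (algebraMap A B) • ⊤
  let C : Ideal A := Ideal.span {c | ∃ (v : Fin r → B) (i : Fin r) (j : B), α v ∈ J₁ ∧ c = s (v i) j}
  let P := (maximalIdeal A).map (algebraMap A B)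
  have hCmem : ∀ (v : Fin r → B), α v ∈ J₁ → ∀ (i : Fin r), v i ∈ C.map (algebraMap A B) := fun v hv i => by
    rw [show v i = π (s (v i)) from (LinearMap.congr_fun hπs (v i)).symm, ← (s (v i)).sum_single, Finsupp.sum, map_sum]
    refine sum_mem fun j hj => ?_
    rw [← Finsupp.smul_single_one, map_smul, Algebra.smul_def]
    exact Ideal.mul_mem_right _ _ (Ideal.mem_map_of_mem _ (Ideal.subset_span ⟨v, i, j, hv, rfl⟩))
  refine ⟨I₁ ⊔ C, ⟨?_, ?_⟩⟩
  · intro A' B' M' _ _ _ hlh _ _ _ _ _ _ hpo _ _ _ _ _ _ g hg hflat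
    haveI := hpo
    haveI := hlh
    haveI : Algebra.IsPushout A A' B B' := Algebra.IsPushout.symm inferInstance
    obtain ⟨hsm', hirr'⟩ := smooth_geomIrred_model (A' := A') (B' := B') hirr
    haveI := hsm'
    obtain ⟨Q, hQ, hQm, hQq⟩ := PureColimLib.exists_prime_over (A' := A) (B' := B) (A := A') (B := B') (maximalIdeal A') qB
      ((maximalIdeal_comap (algebraMap A A')).trans (qB.over_def (maximalIdeal A)))
    haveI := hQ
    let P' := (maximalIdeal A').map (algebraMap A' B')
    haveI : P'.IsPrime := DevLib.isPrime_map hirr' _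
    have hP'P : P'.comap (algebraMap B B') = P := by
      refine le_antisymm ?_ (Ideal.map_le_iff_le_comap.2 fun a ha => ?_)
      · obtain ⟨Q₁, hQ₁, hQ₁m, hQ₁P⟩ := PureColimLib.exists_prime_over (A' := A) (B' := B) (A := A') (B := B')
          (maximalIdeal A') P ((maximalIdeal_comap (algebraMap A A')).trans
            (le_antisymm Ideal.le_comap_map ((Ideal.comap_mono (show P ≤ qB from
              Ideal.map_le_iff_le_comap.2 (qB.over_def (maximalIdeal A)).le)).trans (qB.over_def (maximalIdeal A)).ge)))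
        rw [← hQ₁P]
        exact Ideal.comap_mono (Ideal.map_le_iff_le_comap.2 hQ₁m.ge)
      · show algebraMap B B' (algebraMap A B a) ∈ P'
        rw [← IsScalarTower.algebraMap_apply A B B', IsScalarTower.algebraMap_apply A A' B']
        exact Ideal.mem_map_of_mem _ (map_nonunit (algebraMap A A') a ha)
    obtain ⟨α', hα', hrange, hbc⟩ := exists_model_map α g hg
    have hfib : Function.Bijective (α'.baseChange P'.ResidueField) := by
      letI : Algebra P.ResidueField P'.ResidueField :=
        (Ideal.ResidueField.mapₐ P P' (Algebra.ofId B B') hP'P.symm).toRingHom.toAlgebra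
      haveI : IsScalarTower B P.ResidueField P'.ResidueField :=
        IsScalarTower.of_algebraMap_eq (R := B) (S := P.ResidueField) (A := P'.ResidueField) fun b =>
          ((Ideal.ResidueField.mapₐ P P' (Algebra.ofId B B') hP'P.symm).commutes b).symm
      exact hbc _ (DevLib.bijective_baseChange_field hα)
    haveI : Module.Finite B' M' := Module.Finite.equiv hg.equiv
    obtain ⟨g', hg'⟩ := DevLib.exists_baseChange_coker α α' g hg hrange
    have hI₁0 : I₁.map (algebraMap A A') = ⊥ := hI₁.vanish A' B' (M' ⧸ LinearMap.range α') g' hg' fun Q _ hq hm => by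
      haveI : Q.LiesOver (maximalIdeal A') := ⟨hm.symm⟩
      exact (DevissLib.step hirr' Q α' hfib (hflat Q hq hm)).2
    haveI : Q.LiesOver (maximalIdeal A') := ⟨hQm.symm⟩
    have hinj := (DevissLib.step hirr' Q α' hfib (hflat Q hQq hQm)).1
    rw [Ideal.map_sup, hI₁0, bot_sup_eq, Ideal.map_span, Ideal.span_eq_bot]
    rintro _ ⟨_, ⟨v, i, j, hv, rfl⟩, rfl⟩
    have h0 : g (α v) = 0 := by
      refine Submodule.smul_induction_on (p := fun z => g z = 0) hv (fun b hb m _ => ?_) fun a b ha hb => by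
        rw [map_add, ha, hb, add_zero]
      rw [map_smul, ← algebraMap_smul B' b]
      have : algebraMap B B' b ∈ (I₁.map (algebraMap A B)).map (algebraMap B B') := Ideal.mem_map_of_mem _ hb
      rw [Ideal.map_map, ← IsScalarTower.algebraMap_eq, IsScalarTower.algebraMap_eq A A' B', ← Ideal.map_map, hI₁0,
        Ideal.map_bot, Ideal.mem_bot] at this
      rw [this, zero_smul]
    have h1 : algebraMap B B' ∘ v = 0 := hinj (by rw [hα', h0, map_zero])
    refine (S1228.tmul_eq_zero_iff (A' := A') hπs (v i)).1 ((Algebra.IsPushout.equiv A A' B B').injective ?_) j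
    rw [map_zero, Algebra.IsPushout.equiv_tmul, map_one, one_mul]
    exact congrFun h1 i
  · intro hloc B₀ M₀ _ _ _ _ _ _ hpo _ _ _ _ _ _ g hg Q _ hQq hQm
    haveI := hpo
    let I := I₁ ⊔ C
    let R₀ := A ⧸ I
    haveI : IsLocalHom (algebraMap A R₀) := IsLocalHom.of_surjective _ Ideal.Quotient.mk_surjective
    obtain ⟨hsm₀, hirr₀⟩ := smooth_geomIrred_model (A' := R₀) (B' := B₀) hirr
    haveI := hsm₀
    haveI : Module.Flat R₀ B₀ := by
      haveI := DevissLib.projective_of_smooth hirr₀
      infer_instance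
    obtain ⟨α₀, hα₀, hrange₀, -⟩ := exists_model_map α g hg
    obtain ⟨g', hg'⟩ := DevLib.exists_baseChange_coker α α₀ g hg hrange₀
    have hI₁0 : I₁.map (algebraMap A R₀) = ⊥ := by
      rw [eq_bot_iff]
      refine (Ideal.map_mono (show I₁ ≤ I from le_sup_left)).trans ?_
      rw [Ideal.Quotient.algebraMap_eq, Ideal.map_quotient_self]
    have hcok : FlatCA.FlatAt R₀ Q (M₀ ⧸ LinearMap.range α₀) :=
      (hrep₁ R₀ B₀ (M₀ ⧸ LinearMap.range α₀) g' hg').2 hI₁0 Q hQq hQm
    -- kernel elements are killed off `Q`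
    obtain ⟨hg0s, hg0⟩ := model_eq_zero_iff (A := A) (J := I) g hg
    obtain ⟨hB0s, hB0⟩ : Function.Surjective (algebraMap B B₀) ∧ ∀ b, algebraMap B B₀ b = 0 ↔ b ∈ I.map (algebraMap A B) := by
      obtain ⟨h1, h2⟩ := model_eq_zero_iff (A := A) (M := B) (J := I) (Algebra.linearMap B B₀) (IsBaseChange.linearMap B B₀)
      exact ⟨h1, fun b => (h2 b).trans (by rw [Ideal.smul_eq_mul, Ideal.mul_top])⟩
    have hkill : ∀ v₀ : Fin r → B₀, α₀ v₀ = 0 → ∃ t, t ∉ Q ∧ t • v₀ = 0 := by
      intro v₀ hv₀
      choose v hv using fun i => hB0s (v₀ i)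
      obtain rfl : algebraMap B B₀ ∘ v = v₀ := funext hv
      rw [hα₀, hg0] at hv₀
      let A₁ := A ⧸ I₁
      haveI : Nontrivial A₁ := Ideal.Quotient.nontrivial_iff.2 fun h0 =>
        (maximalIdeal.isMaximal A).ne_top (top_le_iff.1 (h0 ▸ hI₁.le_max))
      haveI : IsLocalRing A₁ := IsLocalRing.of_surjective' (Ideal.Quotient.mk I₁) Ideal.Quotient.mk_surjective
      haveI hlh₁ : IsLocalHom (algebraMap A A₁) := IsLocalHom.of_surjective _ Ideal.Quotient.mk_surjective
      obtain ⟨B₁, M₁, _, _, _, _, _, _, hpo₁, _, _, _, _, _, _, g₁, hg₁⟩ := exists_models (A := A) (S := B) M A₁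
      haveI := hpo₁
      obtain ⟨α₁, hα₁, hrange₁, -⟩ := exists_model_map α g₁ hg₁
      obtain ⟨g₁', hg₁'⟩ := DevLib.exists_baseChange_coker α α₁ g₁ hg₁ hrange₁
      haveI : Algebra.IsPushout A A₁ B B₁ := Algebra.IsPushout.symm inferInstance
      obtain ⟨Q₁, hQ₁, hQ₁m, hQ₁q⟩ := PureColimLib.exists_prime_over (A' := A) (B' := B) (A := A₁) (B := B₁) (maximalIdeal A₁) qB
        ((maximalIdeal_comap (algebraMap A A₁)).trans (qB.over_def (maximalIdeal A)))
      haveI := hQ₁
      have hcok₁ : FlatCA.FlatAt A₁ Q₁ (M₁ ⧸ LinearMap.range α₁) :=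
        hI₁.flat B₁ (M₁ ⧸ LinearMap.range α₁) g₁' hg₁' Q₁ hQ₁q hQ₁m
      obtain ⟨hg1s, hg1⟩ := model_eq_zero_iff (A := A) (J := I₁) g₁ hg₁
      obtain ⟨hB1s, hB1⟩ : Function.Surjective (algebraMap B B₁) ∧ ∀ b, algebraMap B B₁ b = 0 ↔ b ∈ I₁.map (algebraMap A B) := by
        obtain ⟨h1, h2⟩ := model_eq_zero_iff (A := A) (M := B) (J := I₁) (Algebra.linearMap B B₁) (IsBaseChange.linearMap B B₁)
        exact ⟨h1, fun b => (h2 b).trans (by rw [Ideal.smul_eq_mul, Ideal.mul_top])⟩
      let I' : Ideal A₁ := I.map (algebraMap A A₁)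
      have hIB : I'.map (algebraMap A₁ B₁) = (I.map (algebraMap A B)).map (algebraMap B B₁) := by
        rw [Ideal.map_map, Ideal.map_map, ← IsScalarTower.algebraMap_eq, ← IsScalarTower.algebraMap_eq]
      have hx : g₁ (α v) ∈ FibDepthLib.sm (B := B₁) I' M₁ := by
        show g₁ (α v) ∈ I'.map (algebraMap A₁ B₁) • (⊤ : Submodule B₁ M₁)
        rw [hIB]
        refine Submodule.smul_induction_on (p := fun z => g₁ z ∈ _) hv₀ (fun b hb m _ => ?_) fun a b ha hb => by
          rw [map_add]; exact add_mem ha hb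
        rw [map_smul, ← algebraMap_smul B₁ b]
        exact Submodule.smul_mem_smul (Ideal.mem_map_of_mem _ hb) trivial
      obtain ⟨t₁, ht₁, hkill₁⟩ := FibDepthLib.killed_of_flatAt (A := A₁) (B := B₁) (LinearMap.range α₁).subtype
        (LinearMap.range α₁).mkQ Subtype.val_injective (LinearMap.exact_subtype_mkQ _) (Submodule.mkQ_surjective _) Q₁ hcok₁ I'
        ⟨g₁ (α v), ⟨_, hα₁ v⟩⟩ hx
      obtain ⟨t, rfl⟩ := hB1s t₁
      have htq : t ∉ qB := fun h => ht₁ (show t ∈ Q₁.comap (algebraMap B B₁) by rw [hQ₁q]; exact h)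
      obtain ⟨w, hw, hwt⟩ : ∃ w : Fin r → B, (∀ i, w i ∈ I.map (algebraMap A B)) ∧ g₁ (α w) = g₁ (α (t • v)) := by
        have h3 : ∀ y ∈ FibDepthLib.sm (B := B₁) I' (LinearMap.range α₁),
            ∃ w : Fin r → B, (∀ i, w i ∈ I.map (algebraMap A B)) ∧ g₁ (α w) = (y : M₁) := by
          intro y hy
          refine Submodule.smul_induction_on hy (fun b hb m _ => ?_) fun a b ⟨w, hw, hwa⟩ ⟨w', hw', hwb⟩ => ?_
          · rw [hIB, Ideal.mem_map_iff_of_surjective _ hB1s] at hb
            obtain ⟨b, hb, rfl⟩ := hb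
            obtain ⟨u, hu⟩ := m.2
            choose u' hu' using fun i => hB1s (u i)
            refine ⟨b • u', fun i => Ideal.mul_mem_right _ _ hb, ?_⟩
            rw [map_smul, map_smul, ← hα₁, show algebraMap B B₁ ∘ u' = u from funext hu', hu, Submodule.coe_smul, algebraMap_smul]
          · exact ⟨w + w', fun i => add_mem (hw i) (hw' i), by rw [map_add, map_add, hwa, hwb]; rfl⟩
        obtain ⟨w, hw, hw2⟩ := h3 _ hkill₁
        refine ⟨w, hw, hw2.trans ?_⟩
        rw [map_smul, map_smul, Submodule.coe_smul, algebraMap_smul]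
      have hK : α (t • v - w) ∈ J₁ := (hg1 _).1 (by rw [map_sub, map_sub, hwt, sub_self])
      refine ⟨algebraMap B B₀ t, fun h => htq (show t ∈ qB by rw [← hQq]; exact h), funext fun i => ?_⟩
      show algebraMap B B₀ t * algebraMap B B₀ (v i) = 0
      rw [← map_mul, hB0]
      have h4 : t * v i - w i ∈ I.map (algebraMap A B) :=
        Ideal.map_mono (show C ≤ I from le_sup_right) (hCmem _ hK i)
      simpa using add_mem h4 (hw i)
    -- the extension
    let mkM := LocalizedModule.mkLinearMap Q.primeCompl M₀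
    let mkF := LocalizedModule.mkLinearMap Q.primeCompl (Fin r → B₀)
    let mkC := LocalizedModule.mkLinearMap Q.primeCompl (M₀ ⧸ LinearMap.range α₀)
    let u := IsLocalizedModule.map Q.primeCompl mkF mkM α₀
    let w := IsLocalizedModule.map Q.primeCompl mkM mkC (LinearMap.range α₀).mkQ
    have hu : Function.Injective u := by
      rw [injective_iff_map_eq_zero]
      intro x hx
      obtain ⟨⟨v, c⟩, hvc⟩ := IsLocalizedModule.surj Q.primeCompl mkF x
      have h1 : mkM (α₀ v) = 0 := by
        rw [← IsLocalizedModule.map_apply Q.primeCompl mkF mkM α₀ v, ← hvc]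
        show u ((c : B₀) • x) = 0
        rw [map_smul, hx, smul_zero]
      obtain ⟨c₁, hc₁⟩ := (IsLocalizedModule.eq_zero_iff Q.primeCompl mkM).1 h1
      obtain ⟨t, ht, htv⟩ := hkill ((c₁ : B₀) • v) (by rw [map_smul]; exact hc₁)
      have h2 : mkF v = 0 := (IsLocalizedModule.eq_zero_iff Q.primeCompl mkF).2
        ⟨⟨t * (c₁ : B₀), Q.primeCompl.mul_mem ht c₁.2⟩, by rw [Submonoid.smul_def]; show (t * (c₁ : B₀)) • v = 0; rw [mul_smul, htv]⟩
      rw [← hvc] at h2
      exact ((Module.End.isUnit_iff _).1 (IsLocalizedModule.map_units mkF c)).1 (h2.trans (map_zero _).symm)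
    have hex : Function.Exact u w :=
      IsLocalizedModule.map_exact Q.primeCompl mkF mkM mkC _ _ (LinearMap.exact_map_mkQ_range α₀)
    have hws : Function.Surjective w :=
      IsLocalizedModule.map_surjective _ _ _ _ (LinearMap.range α₀).mkQ_surjective
    haveI : Module.Flat R₀ (LocalizedModule Q.primeCompl (M₀ ⧸ LinearMap.range α₀)) := hcok
    haveI : Module.Flat R₀ (LocalizedModule Q.primeCompl (Fin r → B₀)) := by
      haveI := DevissLib.projective_of_smooth hirr₀
      haveI : Module.Projective R₀ (Fin r →₀ B₀) := Module.Projective.of_equiv (finsuppLequivDFinsupp (ι := Fin r) R₀).symm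
      haveI : Module.Flat R₀ (Fin r → B₀) := Module.Flat.of_linearEquiv (Finsupp.linearEquivFunOnFinite R₀ B₀ (Fin r)).symm
      exact FibAssLib.flatAt_of_flat Q
    exact CAlgBasics.flat_of_exact (f := u.restrictScalars R₀) (g := w.restrictScalars R₀) hu hex hws

end Groth.Agent.FlatIdealLib
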